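import Mathlib.Data.Int.Basic
import Mathlib.Data.List.Basic

/-!
Tables for the 27-dimensional cubic form of type `E₆`: the 45 monomials, the 72 integral root
operators, the grading by a highest weight, the five hyperbolic pairs and a torus frame.
-/

set_option autoImplicit false

namespace Cfsg.Agent.Chev.E6Cubic

/-- The monomials `(coefficient, a, b, c)` of the cubic form, indices `9k + 3i + j`. -/
def mons : List (ℤ × ℕ × ℕ × ℕ) := [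
  (1, 0, 4, 8), ((-1), 0, 5, 7), ((-1), 1, 3, 8), (1, 1, 5, 6), (1, 2, 3, 7), ((-1), 2, 4, 6),
  (1, 9, 13, 17), ((-1), 9, 14, 16), ((-1), 10, 12, 17), (1, 10, 14, 15), (1, 11, 12, 16),
  ((-1), 11, 13, 15), (1, 18, 22, 26), ((-1), 18, 23, 25), ((-1), 19, 21, 26), (1, 19, 23, 24),
  (1, 20, 21, 25), ((-1), 20, 22, 24), ((-1), 0, 9, 18), ((-1), 0, 10, 21), ((-1), 0, 11, 24),
  ((-1), 1, 12, 18), ((-1), 1, 13, 21), ((-1), 1, 14, 24), ((-1), 2, 15, 18), ((-1), 2, 16, 21),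
  ((-1), 2, 17, 24), ((-1), 3, 9, 19), ((-1), 3, 10, 22), ((-1), 3, 11, 25), ((-1), 4, 12, 19),
  ((-1), 4, 13, 22), ((-1), 4, 14, 25), ((-1), 5, 15, 19), ((-1), 5, 16, 22), ((-1), 5, 17, 25),
  ((-1), 6, 9, 20), ((-1), 6, 10, 23), ((-1), 6, 11, 26), ((-1), 7, 12, 20), ((-1), 7, 13, 23),
  ((-1), 7, 14, 26), ((-1), 8, 15, 20), ((-1), 8, 16, 23), ((-1), 8, 17, 26)]

/-- The nonzero entries `(row, column, value)` of the root operators. -/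
def entT : Array (List (ℕ × ℕ × ℤ)) := #[
  [(7, 15, 1), (8, 12, (-1)), (10, 26, 1), (11, 23, (-1)), (18, 3, 1), (19, 0, (-1))],
  [(2, 0, 1), (5, 3, 1), (8, 6, 1), (9, 15, (-1)), (10, 16, (-1)), (11, 17, (-1))],
  [(1, 0, (-1)), (4, 3, (-1)), (7, 6, (-1)), (9, 12, 1), (10, 13, 1), (11, 14, 1)],
  [(7, 16, (-1)), (8, 13, 1), (9, 26, 1), (11, 20, (-1)), (21, 3, (-1)), (22, 0, 1)],
  [(7, 17, (-1)), (8, 14, 1), (9, 23, (-1)), (10, 20, 1), (24, 3, (-1)), (25, 0, 1)],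
  [(4, 15, (-1)), (5, 12, 1), (10, 25, (-1)), (11, 22, 1), (18, 6, 1), (20, 0, (-1))],
  [(5, 26, 1), (8, 25, (-1)), (11, 1, 1), (14, 0, (-1)), (18, 16, 1), (21, 15, (-1))],
  [(5, 23, (-1)), (8, 22, 1), (10, 1, (-1)), (13, 0, 1), (18, 17, 1), (24, 15, (-1))],
  [(4, 26, (-1)), (7, 25, 1), (11, 2, 1), (17, 0, (-1)), (18, 13, (-1)), (21, 12, 1)],
  [(4, 23, 1), (7, 22, (-1)), (10, 2, (-1)), (16, 0, 1), (18, 14, (-1)), (24, 12, 1)],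
  [(6, 0, (-1)), (7, 1, (-1)), (8, 2, (-1)), (18, 20, 1), (21, 23, 1), (24, 26, 1)],
  [(4, 16, 1), (5, 13, (-1)), (9, 25, (-1)), (11, 19, 1), (21, 6, (-1)), (23, 0, 1)],
  [(4, 17, 1), (5, 14, (-1)), (9, 22, 1), (10, 19, (-1)), (24, 6, (-1)), (26, 0, 1)],
  [(5, 20, 1), (8, 19, (-1)), (9, 1, 1), (12, 0, (-1)), (21, 17, 1), (24, 16, (-1))],
  [(4, 20, (-1)), (7, 19, 1), (9, 2, 1), (15, 0, (-1)), (21, 14, (-1)), (24, 13, 1)],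
  [(3, 0, 1), (4, 1, 1), (5, 2, 1), (18, 19, (-1)), (21, 22, (-1)), (24, 25, (-1))],
  [(1, 15, (-1)), (2, 12, 1), (10, 24, (-1)), (11, 21, 1), (19, 6, (-1)), (20, 3, 1)],
  [(2, 26, 1), (8, 24, (-1)), (11, 4, (-1)), (14, 3, 1), (19, 16, (-1)), (22, 15, 1)],
  [(2, 23, (-1)), (8, 21, 1), (10, 4, 1), (13, 3, (-1)), (19, 17, (-1)), (25, 15, 1)],
  [(1, 26, (-1)), (7, 24, 1), (11, 5, (-1)), (17, 3, 1), (19, 13, 1), (22, 12, (-1))],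
  [(1, 23, 1), (7, 21, (-1)), (10, 5, 1), (16, 3, (-1)), (19, 14, 1), (25, 12, (-1))],
  [(6, 3, 1), (7, 4, 1), (8, 5, 1), (19, 20, (-1)), (22, 23, (-1)), (25, 26, (-1))],
  [(11, 9, 1), (14, 12, 1), (17, 15, 1), (18, 24, (-1)), (19, 25, (-1)), (20, 26, (-1))],
  [(10, 9, (-1)), (13, 12, (-1)), (16, 15, (-1)), (18, 21, 1), (19, 22, 1), (20, 23, 1)],
  [(6, 15, 1), (8, 9, (-1)), (13, 26, (-1)), (14, 23, 1), (18, 4, (-1)), (19, 1, 1)],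
  [(6, 12, (-1)), (7, 9, 1), (16, 26, (-1)), (17, 23, 1), (18, 5, (-1)), (19, 2, 1)],
  [(1, 16, 1), (2, 13, (-1)), (9, 24, (-1)), (11, 18, 1), (22, 6, 1), (23, 3, (-1))],
  [(1, 17, 1), (2, 14, (-1)), (9, 21, 1), (10, 18, (-1)), (25, 6, 1), (26, 3, (-1))],
  [(2, 20, 1), (8, 18, (-1)), (9, 4, (-1)), (12, 3, 1), (22, 17, (-1)), (25, 16, 1)],
  [(1, 20, (-1)), (7, 18, 1), (9, 5, (-1)), (15, 3, 1), (22, 14, 1), (25, 13, (-1))],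
  [(2, 25, (-1)), (5, 24, 1), (11, 7, (-1)), (14, 6, 1), (20, 16, (-1)), (23, 15, 1)],
  [(2, 22, 1), (5, 21, (-1)), (10, 7, 1), (13, 6, (-1)), (20, 17, (-1)), (26, 15, 1)],
  [(2, 1, 1), (5, 4, 1), (8, 7, 1), (12, 15, (-1)), (13, 16, (-1)), (14, 17, (-1))],
  [(1, 25, (-1)), (4, 24, 1), (11, 8, 1), (17, 6, (-1)), (20, 13, (-1)), (23, 12, 1)],
  [(1, 22, 1), (4, 21, (-1)), (10, 8, (-1)), (16, 6, 1), (20, 14, (-1)), (26, 12, 1)],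
  [(11, 10, 1), (14, 13, 1), (17, 16, 1), (21, 24, (-1)), (22, 25, (-1)), (23, 26, (-1))],
  [(10, 11, 1), (13, 14, 1), (16, 17, 1), (24, 21, (-1)), (25, 22, (-1)), (26, 23, (-1))],
  [(6, 16, 1), (8, 10, (-1)), (12, 26, 1), (14, 20, (-1)), (21, 4, (-1)), (22, 1, 1)],
  [(6, 17, (-1)), (8, 11, 1), (12, 23, 1), (13, 20, (-1)), (24, 4, 1), (25, 1, (-1))],
  [(1, 2, 1), (4, 5, 1), (7, 8, 1), (15, 12, (-1)), (16, 13, (-1)), (17, 14, (-1))],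
  [(6, 13, (-1)), (7, 10, 1), (15, 26, 1), (17, 20, (-1)), (21, 5, (-1)), (22, 2, 1)],
  [(6, 14, 1), (7, 11, (-1)), (15, 23, 1), (16, 20, (-1)), (24, 5, 1), (25, 2, (-1))],
  [(3, 15, 1), (5, 9, (-1)), (13, 25, (-1)), (14, 22, 1), (18, 7, 1), (20, 1, (-1))],
  [(3, 12, 1), (4, 9, (-1)), (16, 25, 1), (17, 22, (-1)), (18, 8, (-1)), (20, 2, 1)],
  [(3, 26, (-1)), (6, 25, 1), (14, 2, (-1)), (17, 1, 1), (18, 10, (-1)), (21, 9, 1)],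
  [(3, 23, (-1)), (6, 22, 1), (13, 2, (-1)), (16, 1, 1), (18, 11, 1), (24, 9, (-1))],
  [(2, 19, 1), (5, 18, (-1)), (9, 7, 1), (12, 6, (-1)), (23, 17, 1), (26, 16, (-1))],
  [(1, 19, 1), (4, 18, (-1)), (9, 8, (-1)), (15, 6, 1), (23, 14, 1), (26, 13, (-1))],
  [(9, 10, (-1)), (12, 13, (-1)), (15, 16, (-1)), (21, 18, 1), (22, 19, 1), (23, 20, 1)],
  [(9, 11, 1), (12, 14, 1), (15, 17, 1), (24, 18, (-1)), (25, 19, (-1)), (26, 20, (-1))],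
  [(3, 6, 1), (4, 7, 1), (5, 8, 1), (20, 19, (-1)), (23, 22, (-1)), (26, 25, (-1))],
  [(3, 16, (-1)), (5, 10, 1), (12, 25, (-1)), (14, 19, 1), (21, 7, (-1)), (23, 1, 1)],
  [(3, 17, 1), (5, 11, (-1)), (12, 22, (-1)), (13, 19, 1), (24, 7, 1), (26, 1, (-1))],
  [(3, 13, (-1)), (4, 10, 1), (15, 25, 1), (17, 19, (-1)), (21, 8, 1), (23, 2, (-1))],
  [(3, 14, 1), (4, 11, (-1)), (15, 22, 1), (16, 19, (-1)), (24, 8, (-1)), (26, 2, 1)],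
  [(3, 20, 1), (6, 19, (-1)), (12, 2, 1), (15, 1, (-1)), (21, 11, 1), (24, 10, (-1))],
  [(0, 3, 1), (1, 4, 1), (2, 5, 1), (19, 18, (-1)), (22, 21, (-1)), (25, 24, (-1))],
  [(0, 15, (-1)), (2, 9, 1), (13, 24, 1), (14, 21, (-1)), (19, 7, 1), (20, 4, (-1))],
  [(0, 12, (-1)), (1, 9, 1), (16, 24, (-1)), (17, 21, 1), (19, 8, (-1)), (20, 5, 1)],
  [(0, 26, 1), (6, 24, (-1)), (14, 5, (-1)), (17, 4, 1), (19, 10, (-1)), (22, 9, 1)],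
  [(0, 23, 1), (6, 21, (-1)), (13, 5, (-1)), (16, 4, 1), (19, 11, 1), (25, 9, (-1))],
  [(0, 6, (-1)), (1, 7, (-1)), (2, 8, (-1)), (20, 18, 1), (23, 21, 1), (26, 24, 1)],
  [(0, 16, 1), (2, 10, (-1)), (12, 24, 1), (14, 18, (-1)), (22, 7, (-1)), (23, 4, 1)],
  [(0, 17, (-1)), (2, 11, 1), (12, 21, 1), (13, 18, (-1)), (25, 7, 1), (26, 4, (-1))],
  [(0, 13, 1), (1, 10, (-1)), (15, 24, (-1)), (17, 18, 1), (22, 8, 1), (23, 5, (-1))],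
  [(0, 14, (-1)), (1, 11, 1), (15, 21, (-1)), (16, 18, 1), (25, 8, (-1)), (26, 5, 1)],
  [(0, 20, (-1)), (6, 18, 1), (12, 5, 1), (15, 4, (-1)), (22, 11, 1), (25, 10, (-1))],
  [(0, 25, 1), (3, 24, (-1)), (14, 8, 1), (17, 7, (-1)), (20, 10, 1), (23, 9, (-1))],
  [(0, 22, 1), (3, 21, (-1)), (13, 8, 1), (16, 7, (-1)), (20, 11, (-1)), (26, 9, 1)],
  [(0, 1, (-1)), (3, 4, (-1)), (6, 7, (-1)), (12, 9, 1), (13, 10, 1), (14, 11, 1)],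
  [(0, 2, 1), (3, 5, 1), (6, 8, 1), (15, 9, (-1)), (16, 10, (-1)), (17, 11, (-1))],
  [(0, 19, (-1)), (3, 18, 1), (12, 8, (-1)), (15, 7, 1), (23, 11, (-1)), (26, 10, 1)]]

/-- Weights of degree one below the highest weight `0`. -/
def S1 : List ℕ := [1, 2, 3, 6, 12, 13, 14, 15, 16, 17, 19, 20, 22, 23, 25, 26]

/-- Weights of degree two below the highest weight. -/
def S2 : List ℕ := [4, 5, 7, 8, 9, 10, 11, 18, 21, 24]

/-- The five hyperbolic pairs in degree two. -/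
def pairT : List (ℕ × ℕ) := [(4, 8), (5, 7), (9, 18), (10, 21), (11, 24)]

/-- Roots and weights normalising the torus of the stabiliser. -/
def frame : List (ℕ × ℕ) := [(46, 7), (37, 8), (48, 23), (49, 11), (44, 3)]

/-- Propagation `(known, known, new)` from the frame to all weights. -/
def propT : List (ℕ × ℕ × ℕ) := [
  (0, 8, 4), (0, 7, 5), (3, 8, 1), (1, 5, 6), (3, 7, 2), (0, 11, 24), (1, 24, 14), (2, 24, 17),
  (3, 11, 25), (6, 23, 10), (6, 11, 26), (7, 23, 13), (8, 23, 16), (13, 17, 9), (10, 17, 12),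
  (10, 14, 15), (23, 25, 18), (23, 24, 19), (0, 10, 21), (3, 10, 22), (6, 9, 20)]

end Cfsg.Agent.Chev.E6Cubic
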