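import Mathlib.Algebra.BigOperators.Group.List.Lemmas
import Mathlib.Algebra.BigOperators.Group.Finset.Piecewise
import Mathlib.Algebra.Ring.Basic
import Mathlib.Data.Int.Cast.Lemmas
import Mathlib.Tactic.Ring
import Mathlib.Tactic.LinearCombination

/-!
Integral combinations that cancel key by key.
-/

set_option autoImplicit false

namespace Cfsg.Agent.Chev.E6Cubic

variable {κ : Type*} [DecidableEq κ] {R : Type*} [Ring R]

/-- The total coefficient of a key. -/
def coefAt (L : List (κ × ℤ)) (k : κ) : ℤ := ((L.filter fun p => decide (p.1 = k)).map Prod.snd).sum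

/-- Whether every key has total coefficient zero. -/
def cancels (L : List (κ × ℤ)) : Bool := L.all fun p => decide (coefAt L p.1 = 0)

theorem sum_eq_coefAt (L : List (κ × ℤ)) (f : κ → R) (S : Finset κ) (hS : ∀ p ∈ L, p.1 ∈ S) :
    (L.map fun p => (p.2 : R) * f p.1).sum = ∑ k ∈ S, (coefAt L k : R) * f k := by
  induction L with
  | nil => simp [coefAt]
  | cons p L ih =>
    rw [List.map_cons, List.sum_cons, ih fun q hq => hS q (List.mem_cons_of_mem _ hq)]
    have hk : ∀ k, (coefAt (p :: L) k : R) * f k =
        (if k = p.1 then (p.2 : R) * f p.1 else 0) + (coefAt L k : R) * f k := fun k => by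
      by_cases h : p.1 = k
      · subst h
        simp [coefAt, add_mul]
      · simp [coefAt, h, Ne.symm h]
    rw [Finset.sum_congr rfl fun k _ => hk k, Finset.sum_add_distrib, Finset.sum_ite_eq',
      if_pos (hS p (List.mem_cons_self ..))]

theorem sum_eq_zero_of_cancels {L : List (κ × ℤ)} (h : cancels L = true) (f : κ → R) :
    (L.map fun p => (p.2 : R) * f p.1).sum = 0 := by
  rw [sum_eq_coefAt L f (L.map Prod.fst).toFinset fun p hp =>
    List.mem_toFinset.2 (List.mem_map_of_mem hp)]
  refine Finset.sum_eq_zero fun k hk => ?_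
  obtain ⟨p, hp, rfl⟩ := List.mem_map.1 (List.mem_toFinset.1 hk)
  have := List.all_eq_true.1 h p hp
  rw [decide_eq_true_eq] at this
  rw [this, Int.cast_zero, zero_mul]

end Cfsg.Agent.Chev.E6Cubic
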