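import Cfsg.Prelude.Def_E6
import Cfsg.Agent.Chev.E6Cubic.Data
import Cfsg.Agent.Chev.E6Cubic.Poly

/-!
The cubic form in 27 numbered coordinates, its two polarisations and their invariance.
-/

set_option autoImplicit false
set_option maxRecDepth 100000
set_option maxHeartbeats 1000000

namespace Cfsg.Agent.Chev.E6Cubic

open Cfsg.Lie Matrix
open scoped MatrixGroups

variable {F : Type*} [Field F]

/-- The index with a given number. -/
def ix (n : ℕ) : I27 :=
  (⟨n / 9 % 3, Nat.mod_lt _ (by decide)⟩, ⟨n / 3 % 3, Nat.mod_lt _ (by decide)⟩,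
    ⟨n % 3, Nat.mod_lt _ (by decide)⟩)

/-- The number of an index. -/
def num (p : I27) : ℕ := 9 * p.1 + 3 * p.2.1 + p.2.2

theorem ix_num (p : I27) : ix (num p) = p := by
  obtain ⟨a, b, c⟩ := p
  have := a.2; have := b.2; have := c.2
  refine Prod.ext (Fin.ext ?_) (Prod.ext (Fin.ext ?_) (Fin.ext ?_)) <;> simp [ix, num] <;> omega

theorem num_lt (p : I27) : num p < 27 := by
  obtain ⟨a, b, c⟩ := p
  have := a.2; have := b.2; have := c.2
  simp [num]; omega

theorem num_ix {n : ℕ} (h : n < 27) : num (ix n) = n := by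
  simp [ix, num]; omega

theorem ix_inj {a b : ℕ} (ha : a < 27) (hb : b < 27) (e : ix a = ix b) : a = b := by
  rw [← num_ix ha, e, num_ix hb]

theorem vec_ext {v w : I27 → F} (h : ∀ n < 27, v (ix n) = w (ix n)) : v = w :=
  funext fun p => by rw [← ix_num p]; exact h _ (num_lt p)

/-- A basis vector. -/
def eb (n : ℕ) : I27 → F := Pi.single (ix n) 1

theorem eb_apply {n m : ℕ} (hn : n < 27) (hm : m < 27) :
    eb (F := F) n (ix m) = if m = n then 1 else 0 := by
  rw [eb, Pi.single_apply]
  exact if_congr ⟨ix_inj hm hn, fun e => e ▸ rfl⟩ rfl rfl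

theorem eb_ne_zero (n : ℕ) : eb (F := F) n ≠ 0 := fun h => by
  have := congrFun h (ix n)
  simp [eb] at this

/-- The form as a sum over the monomials. -/
def tForm (L : List (ℤ × ℕ × ℕ × ℕ)) (x : I27 → F) : F :=
  (L.map fun m => (m.1 : F) * (x (ix m.2.1) * x (ix m.2.2.1) * x (ix m.2.2.2))).sum

/-- The derivative of the form at `x` in the direction `y`. -/
def aForm (L : List (ℤ × ℕ × ℕ × ℕ)) (x y : I27 → F) : F :=
  (L.map fun m => (m.1 : F) * (y (ix m.2.1) * x (ix m.2.2.1) * x (ix m.2.2.2) +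
    x (ix m.2.1) * y (ix m.2.2.1) * x (ix m.2.2.2) +
    x (ix m.2.1) * x (ix m.2.2.1) * y (ix m.2.2.2))).sum

/-- The full polarisation of the form. -/
def dForm (L : List (ℤ × ℕ × ℕ × ℕ)) (x y z : I27 → F) : F :=
  (L.map fun m => (m.1 : F) * (x (ix m.2.1) * y (ix m.2.2.1) * z (ix m.2.2.2) +
    x (ix m.2.1) * z (ix m.2.2.1) * y (ix m.2.2.2) +
    y (ix m.2.1) * x (ix m.2.2.1) * z (ix m.2.2.2) +
    y (ix m.2.1) * z (ix m.2.2.1) * x (ix m.2.2.2) +
    z (ix m.2.1) * x (ix m.2.2.1) * y (ix m.2.2.2) +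
    z (ix m.2.1) * y (ix m.2.2.1) * x (ix m.2.2.2))).sum

theorem cubicT_eq (v : I27 → F) : cubicT v = tForm mons v := by
  simp [cubicT, mat3, Matrix.det_fin_three, Matrix.trace, Matrix.mul_apply, Fin.sum_univ_three,
    mons, tForm, ix]
  ring

theorem tForm_add (L : List (ℤ × ℕ × ℕ × ℕ)) (x y : I27 → F) (s : F) :
    tForm L (x + s • y) =
      tForm L x + s * aForm L x y + s ^ 2 * aForm L y x + s ^ 3 * tForm L y := by
  induction L with
  | nil => simp [tForm, aForm]
  | cons m L ih =>
    simp only [tForm, aForm, List.map_cons, List.sum_cons] at ih ⊢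
    rw [ih]
    simp only [Pi.add_apply, Pi.smul_apply, smul_eq_mul]
    ring

theorem dForm_eq (L : List (ℤ × ℕ × ℕ × ℕ)) (x y z : I27 → F) :
    dForm L x y z = tForm L (x + y + z) - tForm L (x + y) - tForm L (x + z) - tForm L (y + z) +
      tForm L x + tForm L y + tForm L z := by
  induction L with
  | nil => simp [tForm, dForm]
  | cons m L ih =>
    simp only [tForm, dForm, List.map_cons, List.sum_cons] at ih ⊢
    rw [ih]
    simp only [Pi.add_apply]
    ring

theorem dForm_comm (L : List (ℤ × ℕ × ℕ × ℕ)) (x y z : I27 → F) :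
    dForm L x y z = dForm L y x z := by
  rw [dForm_eq, dForm_eq, add_comm y x]; ring

theorem dForm_rot (L : List (ℤ × ℕ × ℕ × ℕ)) (x y z : I27 → F) :
    dForm L x y z = dForm L y z x := by
  rw [dForm_eq, dForm_eq, show y + z + x = x + y + z by abel, add_comm y x, add_comm z x]; ring

theorem dForm_lin (L : List (ℤ × ℕ × ℕ × ℕ)) (x y z w : I27 → F) (a b : F) :
    dForm L x y (a • z + b • w) = a * dForm L x y z + b * dForm L x y w := by
  induction L with
  | nil => simp [dForm]
  | cons m L ih =>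
    simp only [dForm, List.map_cons, List.sum_cons] at ih ⊢
    rw [ih]
    simp only [Pi.add_apply, Pi.smul_apply, smul_eq_mul]
    ring

/-- The pairs of weights completing `n` to a monomial. -/
def der (n : ℕ) : List (ℤ × ℕ × ℕ) :=
  mons.flatMap fun m =>
    (if m.2.1 = n then [(m.1, m.2.2.1, m.2.2.2)] else []) ++
    (if m.2.2.1 = n then [(m.1, m.2.1, m.2.2.2)] else []) ++
    (if m.2.2.2 = n then [(m.1, m.2.1, m.2.2.1)] else [])

theorem mons_lt : ∀ m ∈ mons, m.2.1 < 27 ∧ m.2.2.1 < 27 ∧ m.2.2.2 < 27 := by decide +kernel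

theorem der_lt : ∀ n < 27, ∀ p ∈ der n, p.2.1 < 27 ∧ p.2.2 < 27 := by decide +kernel

theorem aForm_eb {n : ℕ} (hn : n < 27) (x : I27 → F) :
    aForm mons x (eb n) =
      ((der n).map fun p => (p.1 : F) * (x (ix p.2.1) * x (ix p.2.2))).sum := by
  have key : ∀ L : List (ℤ × ℕ × ℕ × ℕ), (∀ m ∈ L, m.2.1 < 27 ∧ m.2.2.1 < 27 ∧ m.2.2.2 < 27) →
      aForm L x (eb n) = ((L.flatMap fun m =>
        (if m.2.1 = n then [(m.1, m.2.2.1, m.2.2.2)] else []) ++
        (if m.2.2.1 = n then [(m.1, m.2.1, m.2.2.2)] else []) ++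
        (if m.2.2.2 = n then [(m.1, m.2.1, m.2.2.1)] else [])).map
          fun p => (p.1 : F) * (x (ix p.2.1) * x (ix p.2.2))).sum := by
    intro L hL
    induction L with
    | nil => simp [aForm]
    | cons m L ih =>
      obtain ⟨h1, h2, h3⟩ := hL m (List.mem_cons_self ..)
      have ih' := ih fun q hq => hL q (List.mem_cons_of_mem _ hq)
      simp only [aForm, List.map_cons, List.sum_cons, List.flatMap_cons, List.map_append,
        List.sum_append] at ih' ⊢
      rw [ih', eb_apply hn h1, eb_apply hn h2, eb_apply hn h3]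
      split_ifs <;> simp [mul_add]
  exact key mons mons_lt

theorem dForm_eb {n : ℕ} (hn : n < 27) (x y : I27 → F) :
    dForm mons x y (eb n) = ((der n).map fun p =>
      (p.1 : F) * (x (ix p.2.1) * y (ix p.2.2) + x (ix p.2.2) * y (ix p.2.1))).sum := by
  have key : ∀ L : List (ℤ × ℕ × ℕ × ℕ), (∀ m ∈ L, m.2.1 < 27 ∧ m.2.2.1 < 27 ∧ m.2.2.2 < 27) →
      dForm L x y (eb n) = ((L.flatMap fun m =>
        (if m.2.1 = n then [(m.1, m.2.2.1, m.2.2.2)] else []) ++
        (if m.2.2.1 = n then [(m.1, m.2.1, m.2.2.2)] else []) ++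
        (if m.2.2.2 = n then [(m.1, m.2.1, m.2.2.1)] else [])).map
          fun p => (p.1 : F) * (x (ix p.2.1) * y (ix p.2.2) + x (ix p.2.2) * y (ix p.2.1))).sum := by
    intro L hL
    induction L with
    | nil => simp [dForm]
    | cons m L ih =>
      obtain ⟨h1, h2, h3⟩ := hL m (List.mem_cons_self ..)
      have ih' := ih fun q hq => hL q (List.mem_cons_of_mem _ hq)
      simp only [dForm, List.map_cons, List.sum_cons, List.flatMap_cons, List.map_append,
        List.sum_append] at ih' ⊢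
      rw [ih', eb_apply hn h1, eb_apply hn h2, eb_apply hn h3]
      split_ifs <;> simp only [List.map_nil, List.map_cons, List.sum_nil, List.sum_cons] <;> ring
  exact key mons mons_lt

/-- The action of a matrix on vectors. -/
def act (g : GL I27 F) (v : I27 → F) : I27 → F := (g : Matrix I27 I27 F) *ᵥ v

theorem act_mul (g h : GL I27 F) (v : I27 → F) : act (g * h) v = act g (act h v) := by
  rw [act, act, act, Units.val_mul, Matrix.mulVec_mulVec]

theorem act_one (v : I27 → F) : act 1 v = v := Matrix.one_mulVec v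

theorem act_add (g : GL I27 F) (v w : I27 → F) : act g (v + w) = act g v + act g w :=
  Matrix.mulVec_add _ v w

theorem act_smul (g : GL I27 F) (a : F) (v : I27 → F) : act g (a • v) = a • act g v :=
  Matrix.mulVec_smul _ a v

theorem act_ext {g h : GL I27 F} (e : ∀ v, act g v = act h v) : g = h :=
  Units.ext (Matrix.ext_of_mulVec_single fun i => e (Pi.single i 1))

theorem act_ext_eb {g h : GL I27 F} (e : ∀ n < 27, act g (eb n) = act h (eb n)) : g = h :=
  Units.ext (Matrix.ext_of_mulVec_single fun i => by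
    have := e _ (num_lt i)
    rwa [eb, ix_num] at this)

theorem act_inj (g : GL I27 F) {v w : I27 → F} (e : act g v = act g w) : v = w := by
  rw [← act_one v, ← act_one w, ← inv_mul_cancel g, act_mul, act_mul, e]

theorem act_surj (g : GL I27 F) (v : I27 → F) : act g (act g⁻¹ v) = v := by
  rw [← act_mul, mul_inv_cancel, act_one]

theorem mem_E6univ {g : GL I27 F} :
    g ∈ E6univ F ↔ ∀ v, tForm mons (act g v) = tForm mons v := by
  simp only [← cubicT_eq]
  rfl

variable (hF : ∃ c : F, c ≠ 0 ∧ c ≠ 1)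

include hF in
theorem aForm_act {g : GL I27 F} (hg : g ∈ E6univ F) (x y : I27 → F) :
    aForm mons (act g x) (act g y) = aForm mons x y := by
  obtain ⟨c, hc0, hc1⟩ := hF
  rw [mem_E6univ] at hg
  have h1 := hg (x + y)
  have hc := hg (x + c • y)
  rw [act_add, show act g x + act g y = act g x + (1 : F) • act g y by rw [one_smul],
    show x + y = x + (1 : F) • y by rw [one_smul], tForm_add, tForm_add, hg, hg] at h1
  rw [act_add, act_smul, tForm_add, tForm_add, hg, hg] at hc
  refine mul_left_cancel₀ (mul_ne_zero hc0 (sub_ne_zero.2 hc1.symm)) ?_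
  linear_combination hc - c ^ 2 * h1

theorem dForm_act {g : GL I27 F} (hg : g ∈ E6univ F) (x y z : I27 → F) :
    dForm mons (act g x) (act g y) (act g z) = dForm mons x y z := by
  rw [mem_E6univ] at hg
  simp only [dForm_eq, ← act_add, hg]

end Cfsg.Agent.Chev.E6Cubic
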