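import Cfsg.Agent.Chev.E6Cubic.White

/-!
Reduction of an isometry fixing the highest weight vector to one permuting the five hyperbolic
pairs of degree two.
-/

set_option autoImplicit false
set_option maxRecDepth 100000
set_option maxHeartbeats 1000000

namespace Cfsg.Agent.Chev.E6Cubic

open Cfsg.Lie Matrix
open scoped MatrixGroups

variable {F : Type*} [Field F]

/-- The quadratic form in degree two. -/
def qF (x : I27 → F) : F :=
  x (ix 4) * x (ix 8) - x (ix 5) * x (ix 7) - x (ix 9) * x (ix 18) - x (ix 10) * x (ix 21) -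
    x (ix 11) * x (ix 24)

/-- The polar form in degree two. -/
def bF (x y : I27 → F) : F :=
  (x (ix 4) * y (ix 8) + x (ix 8) * y (ix 4)) - (x (ix 5) * y (ix 7) + x (ix 7) * y (ix 5)) -
    (x (ix 9) * y (ix 18) + x (ix 18) * y (ix 9)) - (x (ix 10) * y (ix 21) + x (ix 21) * y (ix 10)) -
    (x (ix 11) * y (ix 24) + x (ix 24) * y (ix 11))

theorem der_zero : der 0 =
    [(1, 4, 8), (-1, 5, 7), (-1, 9, 18), (-1, 10, 21), (-1, 11, 24)] := by decide +kernel

theorem aForm_top (x : I27 → F) : aForm mons x (eb 0) = qF x := by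
  rw [aForm_eb (by decide), der_zero]
  simp [qF]
  ring

theorem dForm_top (x y : I27 → F) : dForm mons x y (eb 0) = bF x y := by
  rw [dForm_eb (by decide), der_zero]
  simp [bF]
  ring

theorem mem_S2_iff {n : ℕ} : n ∈ S2 ↔
    n = 4 ∨ n = 5 ∨ n = 7 ∨ n = 8 ∨ n = 9 ∨ n = 10 ∨ n = 11 ∨ n = 18 ∨ n = 21 ∨ n = 24 := by
  simp [S2]

theorem bF_comm (x y : I27 → F) : bF x y = bF y x := by simp only [bF]; ring

theorem bF_congr {x y y' : I27 → F} (h : ∀ n ∈ S2, y (ix n) = y' (ix n)) : bF x y = bF x y' := by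
  simp only [bF, h 4 (by decide), h 5 (by decide), h 7 (by decide), h 8 (by decide),
    h 9 (by decide), h 10 (by decide), h 11 (by decide), h 18 (by decide), h 21 (by decide),
    h 24 (by decide)]

theorem bF_zero {x y : I27 → F} (h : ∀ n ∈ S2, y (ix n) = 0) : bF x y = 0 := by
  rw [bF_congr (y' := 0) h]
  simp [bF]

theorem bF_single {k : ℕ} (hk : k ∈ S2) : ∃ ε : F, ε ≠ 0 ∧ ∀ (x y : I27 → F) (d : F),
    (∀ n ∈ S2, y (ix n) = if n = k then d else 0) → bF x y = ε * (d * x (ix (mir k))) := by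
  have h : ∀ (x : I27 → F) (d : F), bF x (fun p => if p = ix k then d else 0) =
      (if k = 4 ∨ k = 8 then 1 else -1) * (d * x (ix (mir k))) := fun x d => by
    rcases mem_S2_iff.1 hk with rfl | rfl | rfl | rfl | rfl | rfl | rfl | rfl | rfl | rfl <;>
      simp [bF, ix, mir, pairT] <;> ring
  refine ⟨if k = 4 ∨ k = 8 then 1 else -1, by split_ifs <;> simp, fun x y d hy => ?_⟩
  rw [bF_congr (y' := fun p => if p = ix k then d else 0), h]
  intro n hn
  rw [hy n hn]
  exact if_congr ⟨fun e => e ▸ rfl, ix_inj (S_lt n (List.mem_append_right _ hn)).1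
    (S_lt k (List.mem_append_right _ hk)).1⟩ rfl rfl

theorem qF_pair {k : ℕ} (hk : k ∈ S2) : ∃ ε : F, ε ≠ 0 ∧ ∀ x : I27 → F,
    (∀ n ∈ S2, n ≠ k → n ≠ mir k → x (ix n) = 0) → qF x = ε * (x (ix k) * x (ix (mir k))) := by
  refine ⟨if k = 4 ∨ k = 8 then 1 else -1, by split_ifs <;> simp, fun x hx => ?_⟩
  rcases mem_S2_iff.1 hk with rfl | rfl | rfl | rfl | rfl | rfl | rfl | rfl | rfl | rfl <;>
    simp [mir, pairT] at hx ⊢ <;>
    simp [qF, hx 4 (by decide), hx 5 (by decide), hx 7 (by decide), hx 8 (by decide),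
      hx 9 (by decide), hx 10 (by decide), hx 11 (by decide), hx 18 (by decide),
      hx 21 (by decide), hx 24 (by decide)] <;>
    ring

variable (hF : ∃ c : F, c ≠ 0 ∧ c ≠ 1)

include hF in
theorem qF_act {g : GL I27 F} (hg : g ∈ E6univ F) (he : act g (eb 0) = eb 0) (x : I27 → F) :
    qF (act g x) = qF x := by
  rw [← aForm_top, ← he, aForm_act hF hg, aForm_top]

omit hF in
theorem bF_act {g : GL I27 F} (hg : g ∈ E6univ F) (he : act g (eb 0) = eb 0) (x y : I27 → F) :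
    bF (act g x) (act g y) = bF x y := by
  rw [← dForm_top, ← he, dForm_act hg, dForm_top]

omit hF in
theorem eb_S2 {k : ℕ} (hk : k ∈ S2) : ∀ n ∈ S2, eb (F := F) k (ix n) = if n = k then 1 else 0 :=
  fun n hn => eb_apply (S_lt k (List.mem_append_right _ hk)).1 (S_lt n (List.mem_append_right _ hn)).1

omit hF in
theorem S2_zero_of_bF {y : I27 → F} (h : ∀ k ∈ S2, bF y (eb k) = 0) : ∀ n ∈ S2, y (ix n) = 0 :=
  fun n hn => by
    obtain ⟨hm, hmm, -⟩ := mir_spec n hn
    obtain ⟨ε, hε, hb⟩ := bF_single (F := F) hm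
    have e := h _ hm
    rw [hb y _ 1 (eb_S2 hm), hmm, one_mul] at e
    exact (mul_eq_zero.1 e).resolve_left hε

omit hF in
theorem fixedW_sub {m : ℕ} {n : ℕ} (h : n ∈ fixedW m) : n ∈ S2 := by
  have : ∀ m : Fin 6, ∀ n ∈ fixedW m, n ∈ S2 := by decide +kernel
  by_cases hm : m < 6
  · exact this ⟨m, hm⟩ n h
  · refine this 5 n ?_
    rwa [fixedW, List.take_of_length_le (by simp [pairT]; omega)] at h

omit hF in
theorem mem_freeW {m n : ℕ} : n ∈ freeW m ↔ n ∈ S2 ∧ n ∉ fixedW m := by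
  simp [freeW]

/-- Elements of the generated group fixing the highest weight vector and the first `m` pairs. -/
structure Good (m : ℕ) (h : GL I27 F) : Prop where
  mem : h ∈ gen0 F
  top : act h (eb 0) = eb 0
  fix : ∀ y : I27 → F, (∀ n ∈ freeW m, y (ix n) = 0) → ∀ n ∈ S2, act h y (ix n) = y (ix n)
  free : ∀ y : I27 → F, (∀ n ∈ fixedW m, y (ix n) = 0) → ∀ n ∈ fixedW m, act h y (ix n) = 0

omit hF in
theorem good_one (m : ℕ) : Good m (1 : GL I27 F) :=
  ⟨Subgroup.one_mem _, act_one _, fun y _ n _ => by rw [act_one],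
    fun y hy n hn => by rw [act_one]; exact hy n hn⟩

omit hF in
theorem Good.mul {m : ℕ} {h h' : GL I27 F} (a : Good m h) (b : Good m h') : Good m (h * h') := by
  refine ⟨Subgroup.mul_mem _ a.mem b.mem, by rw [act_mul, b.top, a.top], fun y hy n hn => ?_,
    fun y hy n hn => by rw [act_mul]; exact a.free _ (b.free y hy) n hn⟩
  rw [act_mul, a.fix _ (fun k hk => by rw [b.fix y hy k (mem_freeW.1 hk).1]; exact hy k hk) n hn,
    b.fix y hy n hn]

omit hF in
/-- A move between two free weights. -/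
theorem exists_move {m a b : ℕ} (ha : a ∈ freeW m) (hb : b ∈ freeW m) (hba : b ≠ a)
    (hbm : b ≠ mir a) (hma : mir a ∈ freeW m) (hmb : mir b ∈ freeW m) (t : F) :
    ∃ (h : GL I27 F) (ε : F), Good m h ∧ ∀ y,
      act h y (ix a) = y (ix a) + t * y (ix b) ∧
      act h y (ix (mir b)) = y (ix (mir b)) + ε * t * y (ix (mir a)) ∧
      ∀ n ∈ S2, n ≠ a → n ≠ mir b → act h y (ix n) = y (ix n) := by
  have haS := (mem_freeW.1 ha).1
  have hbS := (mem_freeW.1 hb).1
  obtain ⟨r, hr1, hr2, h0, hno⟩ := moves a haS b hbS hba hbm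
  obtain ⟨e, he, hs⟩ := rowSum_isRow (F := F) hr1
  obtain ⟨e', -, hs'⟩ := rowSum_isRow (F := F) hr2
  have lt : ∀ n ∈ S2, n < 27 := fun n hn => (S_lt n (List.mem_append_right _ hn)).1
  have f1 : ∀ y, act (rootEl r (t * e)) y (ix a) = y (ix a) + t * y (ix b) := fun y => by
    rw [act_rootEl _ _ _ (lt a haS), hs]
    linear_combination (t * y (ix b)) * he
  have f2 : ∀ y, act (rootEl r (t * e)) y (ix (mir b)) =
      y (ix (mir b)) + e * e' * t * y (ix (mir a)) := fun y => by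
    rw [act_rootEl _ _ _ (lt _ (mir_spec b hbS).1), hs']
    ring
  have f3 : ∀ y, ∀ n ∈ S2, n ≠ a → n ≠ mir b → act (rootEl r (t * e)) y (ix n) = y (ix n) :=
    fun y n hn h1 h2 => by
      rw [act_rootEl _ _ _ (lt n hn), rowSum_noRow (hno n hn h1 h2), mul_zero, add_zero]
  refine ⟨rootEl r (t * e), e * e', ⟨rootEl_gen0 _ _, act_fixes0 h0 _, fun y hy n hn => ?_,
    fun y hy n hn => ?_⟩, fun y => ⟨f1 y, f2 y, f3 y⟩⟩
  · by_cases h1 : n = a
    · rw [h1, f1, hy b hb, mul_zero, add_zero]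
    by_cases h2 : n = mir b
    · rw [h2, f2, hy _ hma, mul_zero, add_zero]
    exact f3 y n hn h1 h2
  · rw [f3 y n (fixedW_sub hn) (fun e => (mem_freeW.1 ha).2 (e ▸ hn))
      (fun e => (mem_freeW.1 hmb).2 (e ▸ hn))]
    exact hy n hn

/-- The first `m` pairs are fixed in degree two. -/
structure Fx (m : ℕ) (g : GL I27 F) : Prop where
  mem : g ∈ E6univ F
  top : act g (eb 0) = eb 0
  col : ∀ k ∈ fixedW m, ∀ n ∈ S2, act g (eb k) (ix n) = if n = k then 1 else 0

omit hF in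
theorem Fx.good_mul {m : ℕ} {g h : GL I27 F} (hg : Fx m g) (hh : Good m h) : Fx m (h * g) := by
  refine ⟨Subgroup.mul_mem _ (gen0_le hh.mem) hg.mem, by rw [act_mul, hg.top, hh.top],
    fun k hk n hn => ?_⟩
  rw [act_mul, hh.fix _ (fun j hj => ?_) n hn]
  · exact hg.col k hk n hn
  · rw [hg.col k hk j (mem_freeW.1 hj).1, if_neg fun e : j = k => (mem_freeW.1 hj).2 (e ▸ hk)]

omit hF in
theorem Fx.free_zero {m : ℕ} {g : GL I27 F} (hg : Fx m g) {j : ℕ} (hj : j ∈ freeW m)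
    (hclosed : ∀ n ∈ freeW m, mir n ∈ freeW m) :
    ∀ n ∈ fixedW m, act g (eb j) (ix n) = 0 := fun n hn => by
  have hnS := fixedW_sub hn
  obtain ⟨hmn, hmm, -⟩ := mir_spec n hnS
  have hk : mir n ∈ fixedW m := by
    by_contra hcon
    exact (mem_freeW.1 (hmm ▸ hclosed _ (mem_freeW.2 ⟨hmn, hcon⟩))).2 hn
  obtain ⟨ε, hε, hb⟩ := bF_single (F := F) hmn
  have e := bF_act hg.mem hg.top (eb j) (eb (mir n))
  rw [hb _ _ 1 (hg.col _ hk), hb _ _ 1 (eb_S2 hmn), hmm, one_mul, one_mul,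
    eb_S2 (mem_freeW.1 hj).1 n hnS, if_neg fun e : n = j => (mem_freeW.1 hj).2 (e ▸ hn), mul_zero] at e
  exact (mul_eq_zero.1 e).resolve_left hε

include hF in
theorem step_first {m : ℕ} (hm : m < 4) {k k' : ℕ} (hp : pairT[m]? = some (k, k')) {g : GL I27 F}
    (hg : Fx m g) : ∃ h, Good m h ∧
      ∀ n ∈ S2, act (h * g) (eb k) (ix n) = if n = k then 1 else 0 := by
  obtain ⟨hk, hk', -, hclosed, hex⟩ := free_spec ⟨m, by omega⟩ (k, k') hp
  obtain ⟨q, hq, hqk, hqk'⟩ := hex hm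
  clear hex
  simp only at hk hk' hqk hqk' hclosed hq
  subst hk'
  have hkS := (mem_freeW.1 hk).1
  have hqS := (mem_freeW.1 hq).1
  obtain ⟨hk'S, hmm, hkk⟩ := mir_spec k hkS
  have hk'f := hclosed k hk
  have hqm := hclosed q hq
  have mq : mir q ≠ k := fun e => hqk' (by rw [← e, (mir_spec q hqS).2.1])
  set v := act g (eb k) with hv
  have hvz := hg.free_zero hk hclosed
  obtain ⟨n₀, hn₀, hne⟩ : ∃ n ∈ S2, v (ix n) ≠ 0 := by
    by_contra hcon
    push Not at hcon
    obtain ⟨ε, hε, hb⟩ := bF_single (F := F) hk'S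
    have e := bF_act hg.mem hg.top (eb (mir k)) (eb k)
    rw [← hv, bF_zero hcon, bF_comm, hb _ _ 1 (eb_S2 hk'S), hmm, one_mul, eb_S2 hkS k hkS,
      if_pos rfl, mul_one] at e
    exact hε e.symm
  have hn₀f : n₀ ∈ freeW m := mem_freeW.2 ⟨hn₀, fun e => hne (hvz n₀ e)⟩
  have step : ∀ y : I27 → F, ∀ b ∈ freeW m, b ≠ k → b ≠ mir k → y (ix b) ≠ 0 →
      ∃ h, Good m h ∧ act h y (ix k) ≠ 0 := fun y b hb hbk hbk' hy => by
    by_cases h0 : y (ix k) = 0
    · obtain ⟨h, ε, hG, hh⟩ := exists_move hk hb hbk hbk' hk'f (hclosed b hb) (1 : F)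
      exact ⟨h, hG, by rw [(hh y).1, h0, zero_add, one_mul]; exact hy⟩
    · exact ⟨1, good_one m, by rwa [act_one]⟩
  obtain ⟨h₁, hG₁, hne₁⟩ : ∃ h, Good m h ∧ act h v (ix k) ≠ 0 := by
    by_cases hnk : n₀ = k
    · exact ⟨1, good_one m, by rw [act_one, ← hnk]; exact hne⟩
    by_cases hnk' : n₀ = mir k
    · by_cases hq0 : v (ix q) = 0
      · obtain ⟨h, ε, hG, hh⟩ := exists_move hq hk'f (Ne.symm hqk')
          (fun e => hqk (by rw [← (mir_spec q hqS).2.1, ← e, hmm])) hqm (by rw [hmm]; exact hk) (1 : F)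
        have : act h v (ix q) ≠ 0 := by
          rw [(hh v).1, hq0, zero_add, one_mul, ← hnk']; exact hne
        obtain ⟨h', hG', hne'⟩ := step _ q hq hqk hqk' this
        exact ⟨h' * h, hG'.mul hG, by rwa [act_mul]⟩
      · exact step v q hq hqk hqk' hq0
    · exact step v n₀ hn₀f hnk hnk' hne
  obtain ⟨h₂, hG₂, hone⟩ : ∃ h, Good m h ∧ act h (act h₁ v) (ix k) = 1 := by
    set w := act h₁ v
    set s := (1 - w (ix q)) / w (ix k)
    obtain ⟨ha, εa, hGa, hha⟩ := exists_move hq hk (Ne.symm hqk) (Ne.symm mq) hqm hk'f s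
    obtain ⟨hb, εb, hGb, hhb⟩ := exists_move hk hq hqk hqk' hk'f hqm (1 - w (ix k))
    refine ⟨hb * ha, hGb.mul hGa, ?_⟩
    rw [act_mul, (hhb _).1, (hha w).1, (hha w).2.2 k hkS (Ne.symm hqk) (Ne.symm hkk),
      show s * w (ix k) = 1 - w (ix q) from div_mul_cancel₀ _ hne₁]
    ring
  have kill : ∀ L : List ℕ, L.Nodup → (∀ p ∈ L, p ∈ freeW m ∧ p ≠ k ∧ p ≠ mir k) →
      ∃ h, Good m h ∧ act h (act h₁ v) (ix k) = 1 ∧ ∀ p ∈ L, act h (act h₁ v) (ix p) = 0 := by
    intro L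
    induction L with
    | nil => exact fun _ _ => ⟨h₂, hG₂, hone, by simp⟩
    | cons p L ih =>
      intro hnd hL
      rw [List.nodup_cons] at hnd
      obtain ⟨h, hG, h1, hz⟩ := ih hnd.2 fun a ha => hL a (List.mem_cons_of_mem _ ha)
      obtain ⟨hp, hpk, hpk'⟩ := hL p (List.mem_cons_self ..)
      have hpS := (mem_freeW.1 hp).1
      obtain ⟨h', ε, hG', hh⟩ := exists_move hp hk (Ne.symm hpk)
        (fun e => hpk' (by rw [e, (mir_spec p hpS).2.1])) (hclosed p hp) hk'f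
        (-(act h (act h₁ v) (ix p)))
      refine ⟨h' * h, hG'.mul hG, ?_, fun a ha => ?_⟩
      · rw [act_mul, (hh _).2.2 k hkS (Ne.symm hpk) (Ne.symm hkk), h1]
      · rw [act_mul]
        rcases List.mem_cons.1 ha with rfl | haL
        · rw [(hh _).1, h1, mul_one, add_neg_cancel]
        · obtain ⟨haf, hak, hak'⟩ := hL a ha
          rw [(hh _).2.2 a (mem_freeW.1 haf).1 (fun e => hnd.1 (e ▸ haL)) hak', hz a haL]
  obtain ⟨h₃, hG₃, h1, hz⟩ := kill
    ((freeW m).filter fun p => decide (p ≠ k ∧ p ≠ mir k))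
    (((by decide +kernel : S2.Nodup).filter _).filter _)
    fun p hp => by simpa using hp
  refine ⟨h₃ * h₁, hG₃.mul hG₁, fun n hn => ?_⟩
  have hw : act (h₃ * h₁ * g) (eb k) = act h₃ (act h₁ v) := by rw [act_mul, act_mul]
  have hzero : ∀ a ∈ S2, a ≠ k → a ≠ mir k → act h₃ (act h₁ v) (ix a) = 0 := fun a ha h h' => by
    by_cases haf : a ∈ fixedW m
    · exact hG₃.free _ (hG₁.free _ hvz) a haf
    · exact hz a (by simp [mem_freeW, ha, haf, h, h'])
  rw [hw]
  by_cases hnk : n = k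
  · rw [if_pos hnk, hnk, h1]
  rw [if_neg hnk]
  by_cases hnk' : n = mir k
  swap
  · exact hzero n hn hnk hnk'
  obtain ⟨ε, hε, hqp⟩ := qF_pair (F := F) hkS
  have e := qF_act hF (Subgroup.mul_mem _ (gen0_le (hG₃.mul hG₁).mem) hg.mem)
    (by rw [act_mul, hg.top, (hG₃.mul hG₁).top]) (eb k)
  rw [hw, hqp _ hzero, h1, one_mul,
    hqp _ (fun a ha h _ => by rw [eb_S2 hkS a ha, if_neg h]), eb_S2 hkS _ hk'S,
    if_neg hkk, mul_zero, mul_zero] at e
  rw [hnk']
  exact (mul_eq_zero.1 e).resolve_left hε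

include hF in
theorem step_second {m : ℕ} (hm : m < 4) {k k' : ℕ} (hp : pairT[m]? = some (k, k'))
    {g : GL I27 F} (hg : Fx m g)
    (hv : ∀ n ∈ S2, act g (eb k) (ix n) = if n = k then 1 else 0) :
    ∃ h, Good m h ∧ (∀ n ∈ S2, act (h * g) (eb k) (ix n) = if n = k then 1 else 0) ∧
      ∀ n ∈ S2, act (h * g) (eb k') (ix n) = if n = k' then 1 else 0 := by
  obtain ⟨hk, hk', -, hclosed, -⟩ := free_spec ⟨m, by omega⟩ (k, k') hp
  simp only at hk hk' hclosed
  subst hk'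
  have hkS := (mem_freeW.1 hk).1
  obtain ⟨hk'S, hmm, hkk⟩ := mir_spec k hkS
  have hk'f := hclosed k hk
  have kill : ∀ L : List ℕ, L.Nodup → (∀ p ∈ L, p ∈ freeW m ∧ p ≠ k ∧ p ≠ mir k) →
      ∃ h, Good m h ∧ (∀ n ∈ S2, act (h * g) (eb k) (ix n) = if n = k then 1 else 0) ∧
        act (h * g) (eb (mir k)) (ix (mir k)) = 1 ∧
        ∀ p ∈ L, act (h * g) (eb (mir k)) (ix p) = 0 := by
    intro L
    induction L with
    | nil =>
      refine fun _ _ => ⟨1, good_one m, ?_, ?_, by simp⟩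
      · rwa [one_mul]
      · rw [one_mul]
        obtain ⟨ε, hε, hb⟩ := bF_single (F := F) hkS
        have e := bF_act hg.mem hg.top (eb (mir k)) (eb k)
        rw [hb _ _ 1 hv, hb _ _ 1 (eb_S2 hkS), eb_S2 hk'S _ hk'S, if_pos rfl, one_mul,
          one_mul] at e
        exact mul_left_cancel₀ hε e
    | cons p L ih =>
      intro hnd hL
      rw [List.nodup_cons] at hnd
      obtain ⟨h, hG, hvk, h1, hz⟩ := ih hnd.2 fun a ha => hL a (List.mem_cons_of_mem _ ha)
      obtain ⟨hp, hpk, hpk'⟩ := hL p (List.mem_cons_self ..)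
      have hpS := (mem_freeW.1 hp).1
      obtain ⟨hmp, hpp, -⟩ := mir_spec p hpS
      have hmpk : mir p ≠ k := fun e => hpk' (by rw [← e, hpp])
      have hmpk' : mir p ≠ mir k := fun e => hpk (by rw [← hpp, e, hmm])
      obtain ⟨h', ε, hG', hh⟩ := exists_move hp hk'f (Ne.symm hpk')
        (Ne.symm hmpk') (hclosed p hp) (by rw [hmm]; exact hk)
        (-(act (h * g) (eb (mir k)) (ix p)))
      have hd : ∀ y n, n ∈ S2 → n ≠ p → n ≠ k → act h' y (ix n) = y (ix n) := fun y n hn a b =>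
        (hh y).2.2 n hn a (by rwa [hmm])
      refine ⟨h' * h, hG'.mul hG, fun n hn => ?_, ?_, fun a ha => ?_⟩
      · rw [mul_assoc, act_mul]
        by_cases hnp : n = p
        · rw [hnp, (hh _).1, hvk p hpS, hvk _ hk'S, if_neg hpk, if_neg hkk, mul_zero, add_zero]
        by_cases hnk : n = k
        · have := (hh (act (h * g) (eb k))).2.1
          rw [hmm] at this
          rw [hnk, this, hvk k hkS, hvk _ hmp, if_neg hmpk, mul_zero, add_zero]
        rw [hd _ n hn hnp hnk, hvk n hn]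
      · rw [mul_assoc, act_mul, hd _ _ hk'S (Ne.symm hpk') hkk, h1]
      · rw [mul_assoc, act_mul]
        rcases List.mem_cons.1 ha with rfl | haL
        · rw [(hh _).1, h1, mul_one, add_neg_cancel]
        · obtain ⟨haf, hak, hak'⟩ := hL a ha
          rw [hd _ a (mem_freeW.1 haf).1 (fun e => hnd.1 (e ▸ haL)) hak, hz a haL]
  obtain ⟨h, hG, hvk, h1, hz⟩ := kill
    ((freeW m).filter fun p => decide (p ≠ k ∧ p ≠ mir k))
    (((by decide +kernel : S2.Nodup).filter _).filter _)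
    fun p hp => by simpa using hp
  refine ⟨h, hG, hvk, fun n hn => ?_⟩
  have hg' := hg.good_mul hG
  have hzero : ∀ a ∈ S2, a ≠ mir k → a ≠ k → act (h * g) (eb (mir k)) (ix a) = 0 := fun a ha a1 a2 => by
    by_cases haf : a ∈ fixedW m
    · exact hg'.free_zero hk'f hclosed a haf
    · exact hz a (by simp [mem_freeW, ha, haf, a1, a2])
  by_cases hnk' : n = mir k
  · rw [if_pos hnk', hnk', h1]
  rw [if_neg hnk']
  by_cases hnk : n = k
  swap
  · exact hzero n hn hnk' hnk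
  obtain ⟨ε, hε, hqp⟩ := qF_pair (F := F) hk'S
  have e := qF_act hF hg'.mem hg'.top (eb (mir k))
  rw [hqp _ (fun a ha a1 a2 => hzero a ha a1 (by rwa [hmm] at a2)), h1, one_mul,
    hqp _ (fun a ha a1 _ => by rw [eb_S2 hk'S a ha, if_neg a1]), hmm, eb_S2 hk'S _ hkS,
    if_neg (Ne.symm hkk), mul_zero, mul_zero] at e
  rw [hnk]
  exact (mul_eq_zero.1 e).resolve_left hε

/-- Degree two is permuted by the swap of the last pair, up to scalars. -/
structure Mono (s : Bool) (g : GL I27 F) : Prop where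
  mem : g ∈ E6univ F
  top : act g (eb 0) = eb 0
  col : ∀ k ∈ S2, ∃ d : F, d ≠ 0 ∧
    ∀ n ∈ S2, act g (eb k) (ix n) = if n = sw s k then d else 0

include hF in
theorem exists_fx {g : GL I27 F} (hg : g ∈ E6univ F) (he : act g (eb 0) = eb 0) :
    ∀ m ≤ 4, ∃ h ∈ gen0 F, Fx m (h * g) := by
  intro m
  induction m with
  | zero =>
    exact fun _ => ⟨1, Subgroup.one_mem _, by rwa [one_mul], by rwa [one_mul],
      fun k hk => by simp [fixedW] at hk⟩
  | succ m ih =>
    intro hm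
    obtain ⟨h, hh, hx⟩ := ih (by omega)
    obtain ⟨⟨k, k'⟩, hp⟩ : ∃ p, pairT[m]? = some p :=
      ⟨_, List.getElem?_eq_getElem (by simp [pairT]; omega)⟩
    obtain ⟨h₁, hG₁, hv⟩ := step_first hF (by omega) hp hx
    obtain ⟨h₂, hG₂, hv', hw⟩ := step_second hF (by omega) hp (hx.good_mul hG₁) hv
    have hx₂ := (hx.good_mul hG₁).good_mul hG₂
    refine ⟨h₂ * h₁ * h, Subgroup.mul_mem _ (Subgroup.mul_mem _ hG₂.mem hG₁.mem) hh, ?_⟩
    rw [show h₂ * h₁ * h * g = h₂ * (h₁ * (h * g)) by group]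
    refine ⟨hx₂.mem, hx₂.top, fun j hj n hn => ?_⟩
    rw [(free_spec ⟨m, by omega⟩ _ hp).2.2.1, List.mem_append] at hj
    rcases hj with hj | hj
    · exact hx₂.col j hj n hn
    · simp only [List.mem_cons, List.not_mem_nil, or_false] at hj
      rcases hj with rfl | rfl
      exacts [hv' n hn, hw n hn]

include hF in
theorem exists_mono {g : GL I27 F} (hg : g ∈ E6univ F) (he : act g (eb 0) = eb 0) :
    ∃ h ∈ gen0 F, ∃ s, Mono s (h * g) := by
  obtain ⟨h, hh, hx⟩ := exists_fx hF hg he 4 le_rfl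
  obtain ⟨hfree, -, hall⟩ := free_last
  refine ⟨h, hh, ?_⟩
  set g' := h * g
  have hclosed : ∀ n ∈ freeW 4, mir n ∈ freeW 4 := by rw [hfree]; decide
  have m11 : mir 11 = 24 := by decide
  have m24 : mir 24 = 11 := by decide
  have h11 : (11 : ℕ) ∈ S2 := by decide
  have h24 : (24 : ℕ) ∈ S2 := by decide
  have hz : ∀ j, (j = 11 ∨ j = 24) → ∀ n ∈ S2, n ≠ 11 → n ≠ 24 → act g' (eb j) (ix n) = 0 :=
    fun j hj n hn a b => hx.free_zero (by rw [hfree]; simpa using hj) hclosed n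
      ((hall n hn).resolve_right (not_or_intro a b))
  obtain ⟨ε, hε, hqp⟩ := qF_pair (F := F) h11
  have hq : ∀ j, (j = 11 ∨ j = 24) →
      act g' (eb j) (ix 11) * act g' (eb j) (ix 24) = 0 := fun j hj => by
    have hjS : j ∈ S2 := by rcases hj with rfl | rfl <;> assumption
    have e := qF_act hF hx.mem hx.top (eb j)
    rw [hqp _ (fun n hn a b => hz j hj n hn a (by rwa [m11] at b)), m11,
      hqp _ (fun n hn a b => by
        rw [eb_S2 hjS n hn, if_neg]
        rintro rfl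
        rw [m11] at b
        exact (hj.elim a b)), m11, eb_S2 hjS _ h11, eb_S2 hjS _ h24] at e
    rcases hj with rfl | rfl <;> simpa [hε] using e
  have hb : act g' (eb 11) (ix 11) * act g' (eb 24) (ix 24) +
      act g' (eb 11) (ix 24) * act g' (eb 24) (ix 11) = 1 := by
    have e := bF_act hx.mem hx.top (eb 11) (eb 24)
    have z : ∀ j, (j = 11 ∨ j = 24) → ∀ n ∈ S2, n ≠ 11 → n ≠ 24 →
        act g' (eb j) (ix n) = 0 ∧ eb (F := F) j (ix n) = 0 := fun j hj n hn a b =>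
      ⟨hz j hj n hn a b, by
        rw [eb_S2 (by rcases hj with rfl | rfl <;> assumption) n hn, if_neg]
        rintro rfl
        exact hj.elim a b⟩
    simp [bF, z 11 (.inl rfl) 4 (by decide) (by decide) (by decide),
      z 11 (.inl rfl) 5 (by decide) (by decide) (by decide),
      z 11 (.inl rfl) 7 (by decide) (by decide) (by decide),
      z 11 (.inl rfl) 8 (by decide) (by decide) (by decide),
      z 11 (.inl rfl) 9 (by decide) (by decide) (by decide),
      z 11 (.inl rfl) 10 (by decide) (by decide) (by decide),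
      z 11 (.inl rfl) 18 (by decide) (by decide) (by decide),
      z 11 (.inl rfl) 21 (by decide) (by decide) (by decide), eb_S2 h11 11 h11,
      eb_S2 h11 24 h24, eb_S2 h24 11 h11, eb_S2 h24 24 h24] at e
    linear_combination -e
  have colOf : ∀ (s : Bool) (a b : F), a ≠ 0 → b ≠ 0 →
      (∀ n ∈ S2, act g' (eb 11) (ix n) = if n = sw s 11 then a else 0) →
      (∀ n ∈ S2, act g' (eb 24) (ix n) = if n = sw s 24 then b else 0) → Mono s g' :=
    fun s a b ha hb' ca cb => ⟨hx.mem, hx.top, fun k hk => by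
      rcases hall k hk with hk4 | rfl | rfl
      · refine ⟨1, one_ne_zero, fun n hn => ?_⟩
        rw [hx.col k hk4 n hn, show sw s k = k from ?_]
        have : k ≠ 11 ∧ k ≠ 24 := by
          constructor <;> rintro rfl <;> revert hk4 <;> decide
        cases s <;> simp [sw, this.1, this.2]
      · exact ⟨a, ha, ca⟩
      · exact ⟨b, hb', cb⟩⟩
  have col1 : ∀ j, (j = 11 ∨ j = 24) → ∀ c, (c = 11 ∨ c = 24) →
      act g' (eb j) (ix (mir c)) = 0 →
      ∀ n ∈ S2, act g' (eb j) (ix n) = if n = c then act g' (eb j) (ix c) else 0 := by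
    intro j hj c hc h0 n hn
    by_cases hnc : n = c
    · rw [if_pos hnc, hnc]
    rw [if_neg hnc]
    by_cases hnm : n = mir c
    · rw [hnm, h0]
    rcases hc with rfl | rfl
    · exact hz j hj n hn hnc (by rwa [m11] at hnm)
    · exact hz j hj n hn (by rwa [m24] at hnm) hnc
  rcases mul_eq_zero.1 (hq 11 (.inl rfl)) with ha | ha
  · rw [ha, zero_mul, zero_add] at hb
    have hc : act g' (eb 24) (ix 24) = 0 :=
      (mul_eq_zero.1 (hq 24 (.inr rfl))).resolve_left (right_ne_zero_of_mul_eq_one hb)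
    refine ⟨true, colOf true _ _ (left_ne_zero_of_mul_eq_one hb) (right_ne_zero_of_mul_eq_one hb)
      (col1 11 (.inl rfl) 24 (.inr rfl) (by rw [m24]; exact ha))
      (col1 24 (.inr rfl) 11 (.inl rfl) (by rw [m11]; exact hc))⟩
  · rw [ha, zero_mul, add_zero] at hb
    have hc : act g' (eb 24) (ix 11) = 0 :=
      (mul_eq_zero.1 (hq 24 (.inr rfl))).resolve_right (right_ne_zero_of_mul_eq_one hb)
    exact ⟨false, colOf false _ _ (left_ne_zero_of_mul_eq_one hb) (right_ne_zero_of_mul_eq_one hb)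
      (col1 11 (.inl rfl) 11 (.inl rfl) (by rw [m11]; exact ha))
      (col1 24 (.inr rfl) 24 (.inr rfl) (by rw [m24]; exact hc))⟩

end Cfsg.Agent.Chev.E6Cubic
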