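import Cfsg.Agent.Chev.E6Cubic.Stab
import Cfsg.Agent.Chev.LiftKernel
import Cfsg.Agent.Chev.ExtraAll
import Cfsg.Agent.Chev.SimpleAll

/-!
The isometry group of the cubic form modulo its centre and the Chevalley group of type `E₆`.
-/

set_option autoImplicit false
set_option maxRecDepth 100000
set_option maxHeartbeats 1000000

namespace Cfsg.Agent.Chev.E6Cubic

open Cfsg.Lie Matrix
open scoped MatrixGroups

universe u

variable {F : Type u} [Field F]

/-- The pairs generated by the root elements. -/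
def pairs (F : Type u) [Field F] : Subgroup (GL I27 F × GL chevE6.Idx F) :=
  Subgroup.closure {g | ∃ (r : ℕ) (t : F), g = (rootEl r t, xG facts_chevE6 r t)}

/-- The generators of the pairs. -/
def pX (r : ℕ) (t : F) : pairs F :=
  ⟨(rootEl r t, xG facts_chevE6 r t), Subgroup.subset_closure ⟨r, t, rfl⟩⟩

theorem xG_of_ge {r : ℕ} (hr : ¬ r < 72) (t : F) :
    xG facts_chevE6 r t = (1 : GL chevE6.Idx F) :=
  Units.ext (by rw [xG_val, x_of_ge hr]; rfl)

theorem closure_pX : Subgroup.closure
    {g : pairs F | ∃ (r : ℕ) (t : F), r < chevE6.nroots ∧ g = pX r t} = ⊤ := by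
  apply Subgroup.map_injective (pairs F).subtype_injective
  rw [← MonoidHom.range_eq_map, Subgroup.range_subtype, MonoidHom.map_closure]
  refine le_antisymm ((Subgroup.closure_le _).2 ?_) ((Subgroup.closure_le _).2 ?_)
  · rintro _ ⟨g, -, rfl⟩
    exact g.2
  · rintro _ ⟨r, t, rfl⟩
    by_cases hr : r < 72
    · exact Subgroup.subset_closure ⟨pX r t, ⟨r, t, hr, rfl⟩, rfl⟩
    · rw [rootEl_of_ge hr, xG_of_ge hr]
      exact Subgroup.one_mem _

/-- The lifting of Steinberg's relations to the pairs. -/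
def liftE6 (F : Type u) [Field F] : Lift facts_chevE6 F (pairs F) where
  X := pX
  θ := (MonoidHom.snd _ _).comp (pairs F).subtype
  θ_X _ _ := rfl
  add r _ t₁ t₂ := Subtype.ext (Prod.ext (rootEl_mul r t₁ t₂) (xG_mul facts_chevE6 r t₁ t₂))
  comm r s hr hs hsr hsn t v := by
    rw [show (pX s v)⁻¹ * (pX r t)⁻¹ * pX s v * pX r t =
      (pX r t * pX s v)⁻¹ * (pX s v * pX r t) by group, inv_mul_eq_iff_eq_mul]
    refine Subtype.ext (Prod.ext ?_ ?_)
    · have := rootEl_comm hr hs hsr hsn t v
      refine this.trans ?_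
      show _ = ((MonoidHom.fst _ _).comp (pairs F).subtype)
        (pX r t * pX s v * ((chevE6.commWord F r s t v).map fun p => pX p.1 p.2).prod)
      simp only [map_mul, map_list_prod, List.map_map]
      rfl
    · have := xG_comm facts_chevE6 hr hs hsr hsn t v
      refine this.trans ?_
      show _ = ((MonoidHom.snd _ _).comp (pairs F).subtype)
        (pX r t * pX s v * ((chevE6.commWord F r s t v).map fun p => pX p.1 p.2).prod)
      simp only [map_mul, map_list_prod, List.map_map, wordG]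
      rfl
  gen := closure_pX

theorem fst_range : ((MonoidHom.fst _ _).comp (pairs F).subtype).range = gen0 F := by
  rw [MonoidHom.range_comp, Subgroup.range_subtype, pairs, MonoidHom.map_closure, gen0]
  refine le_antisymm ((Subgroup.closure_le _).2 ?_) ((Subgroup.closure_le _).2 ?_)
  · rintro _ ⟨_, ⟨r, t, rfl⟩, rfl⟩
    exact rootEl_gen0 r t
  · rintro _ ⟨r, t, rfl⟩
    exact Subgroup.subset_closure ⟨_, ⟨r, t, rfl⟩, rfl⟩

theorem snd_range : ((MonoidHom.snd _ _).comp (pairs F).subtype).range = chevE6.group F := by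
  rw [MonoidHom.range_comp, Subgroup.range_subtype, pairs, MonoidHom.map_closure]
  refine le_antisymm ((Subgroup.closure_le _).2 ?_) ((Subgroup.closure_le _).2 ?_)
  · rintro _ ⟨_, ⟨r, t, rfl⟩, rfl⟩
    exact xG_mem_group facts_chevE6 r t
  · rintro g ⟨r, t, e⟩
    refine Subgroup.subset_closure ⟨_, ⟨r, t, rfl⟩, Units.ext ?_⟩
    show ((xG facts_chevE6 r t : GL chevE6.Idx F) : Matrix chevE6.Idx chevE6.Idx F) = _
    rw [xG_val, e, ChevalleyDatum.x, dif_pos r.2]

/-- The projection onto the isometry group. -/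
def toCubic (F : Type u) [Field F] : pairs F →* ↥(E6univ F) :=
  ((MonoidHom.fst _ _).comp (pairs F).subtype).codRestrict _ fun x =>
    gen0_le (fst_range.le ⟨x, rfl⟩)

/-- The projection onto the Chevalley group. -/
def toChev (F : Type u) [Field F] : pairs F →* ↥(chevE6.group F) :=
  ((MonoidHom.snd _ _).comp (pairs F).subtype).codRestrict _ fun x => snd_range.le ⟨x, rfl⟩

theorem toCubic_surjective (hF : ∃ c : F, c ≠ 0 ∧ c ≠ 1) : Function.Surjective (toCubic F) :=
  fun y => by
    obtain ⟨x, hx⟩ := fst_range.ge ((gen0_eq hF).ge y.2)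
    exact ⟨x, Subtype.ext hx⟩

theorem toChev_surjective : Function.Surjective (toChev F) := fun y => by
  obtain ⟨x, hx⟩ := snd_range.ge y.2
  exact ⟨x, Subtype.ext hx⟩

theorem toChev_ker_le : (toChev F).ker ≤ Subgroup.center (pairs F) := fun x hx =>
  (liftE6 F).ker_le_center (extra_chevE6) (MonoidHom.mem_ker.2 (congrArg Subtype.val hx))

theorem cubic_not_comm : ∃ x y : ↥(E6univ F), x * y ≠ y * x := by
  obtain ⟨r, hr, hr0, -⟩ := lower1 1 (by decide)
  obtain ⟨r', hr', hfix, -⟩ := raise1 1 (by decide)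
  obtain ⟨ε, hε, hs⟩ := rowSum_isRow (F := F) hr
  obtain ⟨ε', hε', hs'⟩ := rowSum_isRow (F := F) hr'
  refine ⟨⟨_, rootEl_mem r' (1 : F)⟩, ⟨_, rootEl_mem r (1 : F)⟩, fun e => ?_⟩
  have := congrArg (fun g : ↥(E6univ F) => act g.1 (eb 0) (ix 0)) e
  simp only [Subgroup.coe_mul, act_mul] at this
  rw [act_fixes0 hfix, act_rootEl _ _ _ (by decide), hs', act_rootEl _ _ _ (show 1 < 27 by decide),
    hs, act_rootEl _ _ _ (show 0 < 27 by decide), rowSum_noRow hr0,
    eb_apply (by decide) (show 0 < 27 by decide), eb_apply (by decide) (show 1 < 27 by decide),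
    if_pos rfl, if_neg one_ne_zero] at this
  simp only [one_mul, mul_one, mul_zero, add_zero, zero_add] at this
  exact mul_ne_zero (left_ne_zero_of_mul (hε' ▸ one_ne_zero))
    (left_ne_zero_of_mul (hε ▸ one_ne_zero)) (by linear_combination this)

theorem iso (hF : ∃ c : F, c ≠ 0 ∧ c ≠ 1) : Nonempty (E6 F ≃* ↥(chevE6.group F)) := by
  classical
  obtain ⟨hsimple, hnc⟩ := e6_simple (F := F)
  haveI := hsimple
  have hsurjC := toCubic_surjective hF
  have hcen : Subgroup.center ↥(chevE6.group F) = ⊥ :=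
    ((Subgroup.center ↥(chevE6.group F)).normal_of_characteristic.eq_bot_or_eq_top).resolve_right
      fun h => hnc ⟨⟨fun a b => Subgroup.mem_center_iff.1 (h.ge (Subgroup.mem_top b)) a⟩⟩
  haveI hN : ((toCubic F).ker.map (toChev F)).Normal :=
    Subgroup.Normal.map inferInstance _ toChev_surjective
  have hker : (toCubic F).ker ≤ (toChev F).ker := by
    rcases hN.eq_bot_or_eq_top with h | h
    · exact (Subgroup.map_eq_bot_iff _).1 h
    exfalso
    obtain ⟨x, y, hxy⟩ := cubic_not_comm (F := F)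
    have hz : ∀ w, toCubic F w ∈ Subgroup.center _ := fun w => by
      obtain ⟨n, hn, e⟩ := h.ge (Subgroup.mem_top (toChev F w))
      have hc : n⁻¹ * w ∈ Subgroup.center _ := toChev_ker_le (MonoidHom.mem_ker.2 (by
        rw [map_mul, map_inv, e, inv_mul_cancel]))
      refine Subgroup.mem_center_iff.2 fun v => ?_
      obtain ⟨v, rfl⟩ := hsurjC v
      have hw : toCubic F w = toCubic F (n⁻¹ * w) := by
        rw [map_mul, map_inv, MonoidHom.mem_ker.1 hn, inv_one, one_mul]
      rw [hw, ← map_mul, ← map_mul, Subgroup.mem_center_iff.1 hc v]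
    obtain ⟨w, rfl⟩ := hsurjC x
    exact hxy (Subgroup.mem_center_iff.1 (hz w) y).symm
  set ψ : ↥(E6univ F) →* ↥(chevE6.group F) :=
    (toCubic F).liftOfSurjective hsurjC ⟨toChev F, hker⟩ with hψ
  have hcomp : ∀ w, ψ (toCubic F w) = toChev F w := fun w =>
    MonoidHom.liftOfRightInverse_comp_apply _ _ _ _ _
  have hsurj : Function.Surjective ψ := fun g => by
    obtain ⟨w, rfl⟩ := toChev_surjective g
    exact ⟨_, hcomp w⟩
  have hk : ψ.ker = Subgroup.center _ := by
    refine le_antisymm (fun x hx => ?_) fun x hx => ?_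
    · obtain ⟨w, rfl⟩ := hsurjC x
      rw [MonoidHom.mem_ker, hcomp] at hx
      refine Subgroup.mem_center_iff.2 fun v => ?_
      obtain ⟨v, rfl⟩ := hsurjC v
      rw [← map_mul, ← map_mul, Subgroup.mem_center_iff.1 (toChev_ker_le hx) v]
    · have : ψ x ∈ Subgroup.center ↥(chevE6.group F) := Subgroup.mem_center_iff.2 fun g => by
        obtain ⟨y, rfl⟩ := hsurj g
        rw [← map_mul, ← map_mul, Subgroup.mem_center_iff.1 hx y]
      rwa [hcen, Subgroup.mem_bot] at this
  exact ⟨(QuotientGroup.quotientMulEquivOfEq hk.symm).trans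
    (QuotientGroup.quotientKerEquivOfSurjective ψ hsurj)⟩

end Cfsg.Agent.Chev.E6Cubic
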