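import Cfsg.Agent.Chev.E6Cubic.Data
import Cfsg.Agent.Chev.E6Cubic.Poly
import Cfsg.Agent.Chev.SimpleAll

/-!
Kernel checks on the tables of the 27-dimensional representation.
-/

set_option autoImplicit false
set_option maxRecDepth 100000
set_option maxHeartbeats 2000000

namespace Cfsg.Agent.Chev.E6Cubic

open Cfsg.Lie

/-- The entries of a root operator. -/
def ent (r : ℕ) : List (ℕ × ℕ × ℤ) := entT.getD r []

/-- Product of two lists of entries. -/
def comp (L M : List (ℕ × ℕ × ℤ)) : List (ℕ × ℕ × ℤ) :=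
  L.flatMap fun p => (M.filter fun q => decide (p.2.1 = q.1)).map fun q =>
    (p.1, q.2.1, p.2.2 * q.2.2)

/-- A scalar multiple of a list of entries. -/
def scaleL (C : ℤ) (L : List (ℕ × ℕ × ℤ)) : List (ℕ × ℕ × ℤ) :=
  L.map fun p => (p.1, p.2.1, C * p.2.2)

/-- Key-by-key cancellation of entries. -/
def entCancel (L : List (ℕ × ℕ × ℤ)) : Bool := cancels (L.map fun p => (p.1 * 32 + p.2.1, p.2.2))

theorem ent_bounds : ∀ r : Fin 72, ∀ p ∈ ent r, p.1 < 27 ∧ p.2.1 < 27 := by decide +kernel

theorem ent_sq_fin : ∀ r : Fin 72, comp (ent r) (ent r) = [] := by decide +kernel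

/-- A coordinate of a transformed vector as a list of (power, variable) with coefficients. -/
def lin (r n : ℕ) : List ((ℕ × ℕ) × ℤ) :=
  ((0, n), 1) :: ((ent r).filter fun p => decide (p.1 = n)).map fun p => ((1, p.2.1), p.2.2)

/-- Sorted key of a term. -/
def key (d a b c : ℕ) : ℕ :=
  if a ≤ b then
    if b ≤ c then ((d * 32 + a) * 32 + b) * 32 + c
    else if a ≤ c then ((d * 32 + a) * 32 + c) * 32 + b
    else ((d * 32 + c) * 32 + a) * 32 + b
  else
    if a ≤ c then ((d * 32 + b) * 32 + a) * 32 + c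
    else if b ≤ c then ((d * 32 + b) * 32 + c) * 32 + a
    else ((d * 32 + c) * 32 + b) * 32 + a

/-- The transformed form minus the form. -/
def expand (r : ℕ) : List (ℕ × ℤ) :=
  mons.flatMap fun m =>
    ((lin r m.2.1).flatMap fun A => (lin r m.2.2.1).flatMap fun B => (lin r m.2.2.2).map fun C =>
      (key (A.1.1 + B.1.1 + C.1.1) A.1.2 B.1.2 C.1.2, m.1 * A.2 * B.2 * C.2)) ++
    [(key 0 m.2.1 m.2.2.1 m.2.2.2, -m.1)]

theorem expand_cancels : ∀ r : Fin 72, cancels (expand r) = true := by decide +kernel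

/-- The integral identities behind one commutator relation. -/
def relOk (r s : ℕ) : List (ℕ × ℤ × ℕ × ℕ) → Bool
  | [] => entCancel (comp (ent s) (ent r) ++ scaleL (-1) (comp (ent r) (ent s)))
  | [(k, C, i, j)] => Nat.blt k 72 && Nat.beq i 1 && Nat.beq j 1 &&
      entCancel (comp (ent s) (ent r) ++ scaleL C (ent k) ++
        scaleL (-1) (comp (ent r) (ent s))) &&
      entCancel (comp (ent r) (ent k)) && entCancel (comp (ent s) (ent k))
  | _ => false

theorem rels : ∀ r : Fin 72, ∀ s : Fin 72, (s : ℕ) ≠ r → (s : ℕ) ≠ chevE6.neg r →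
    relOk r s (chevE6.commTerms r s) = true := by decide +kernel

end Cfsg.Agent.Chev.E6Cubic
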