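import Cfsg.Agent.Chev.E6Cubic.Form
import Cfsg.Agent.Chev.E6Cubic.RootChk

/-!
The 72 root elements on the 27 coordinates: they preserve the cubic form and satisfy the commutator
formula of the datum of type `E₆`.
-/

set_option autoImplicit false
set_option maxRecDepth 100000
set_option maxHeartbeats 2000000

namespace Cfsg.Agent.Chev.E6Cubic

open Cfsg.Lie Matrix
open scoped MatrixGroups

variable {F : Type*} [Field F]

/-- The operator of a list of entries. -/
def mat (L : List (ℕ × ℕ × ℤ)) : Matrix I27 I27 F :=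
  (L.map fun p => Matrix.single (ix p.1) (ix p.2.1) (p.2.2 : F)).sum

/-- The entries in one row. -/
def rowSum (L : List (ℕ × ℕ × ℤ)) (v : I27 → F) (n : ℕ) : F :=
  ((L.filter fun p => decide (p.1 = n)).map fun p => (p.2.2 : F) * v (ix p.2.1)).sum

theorem mat_mulVec (L : List (ℕ × ℕ × ℤ)) (hL : ∀ p ∈ L, p.1 < 27) (v : I27 → F) {n : ℕ}
    (hn : n < 27) : (mat L *ᵥ v) (ix n) = rowSum L v n := by
  induction L with
  | nil => simp [mat, rowSum]
  | cons p L ih =>
    have ih' := ih fun q hq => hL q (List.mem_cons_of_mem _ hq)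
    have hp := hL p (List.mem_cons_self ..)
    simp only [mat, List.map_cons, List.sum_cons, Matrix.add_mulVec, Pi.add_apply] at ih' ⊢
    rw [ih', Matrix.single_mulVec]
    by_cases h : p.1 = n
    · subst h; simp [rowSum]
    · have : ix n ≠ ix p.1 := fun e => h (ix_inj hn hp e).symm
      simp [rowSum, h, this]

theorem mat_comp (L M : List (ℕ × ℕ × ℤ)) (hL : ∀ p ∈ L, p.2.1 < 27) (hM : ∀ q ∈ M, q.1 < 27) :
    (mat L * mat M : Matrix I27 I27 F) = mat (comp L M) := by
  induction L with
  | nil => simp [mat, comp]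
  | cons p L ih =>
    have ih' := ih fun q hq => hL q (List.mem_cons_of_mem _ hq)
    have hp := hL p (List.mem_cons_self ..)
    simp only [mat, comp, List.map_cons, List.sum_cons, List.flatMap_cons, List.map_append,
      List.sum_append, add_mul] at ih' ⊢
    rw [ih']
    congr 1
    clear ih ih' hL
    induction M with
    | nil => simp
    | cons q M ihM =>
      have hq := hM q (List.mem_cons_self ..)
      rw [List.map_cons, List.sum_cons, mul_add, ihM fun x hx => hM x (List.mem_cons_of_mem _ hx)]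
      by_cases h : p.2.1 = q.1
      · rw [List.filter_cons_of_pos (by simpa using h)]
        simp [h, Matrix.single_mul_single_same]
      · rw [List.filter_cons_of_neg (by simpa using h)]
        have hne : ix p.2.1 ≠ ix q.1 := fun e => h (ix_inj hp hq e)
        simp [Matrix.single_mul_single_of_ne, hne]

theorem mat_scaleL (C : ℤ) (L : List (ℕ × ℕ × ℤ)) :
    (mat (scaleL C L) : Matrix I27 I27 F) = (C : F) • mat L := by
  induction L with
  | nil => simp [mat, scaleL]
  | cons p L ih =>
    simp only [mat, scaleL, List.map_cons, List.sum_cons, smul_add] at ih ⊢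
    rw [ih, Matrix.smul_single, smul_eq_mul, Int.cast_mul]

theorem mat_append (L M : List (ℕ × ℕ × ℤ)) :
    (mat (L ++ M) : Matrix I27 I27 F) = mat L + mat M := by
  simp [mat, List.sum_append]

theorem mat_eq_zero {L : List (ℕ × ℕ × ℤ)} (hL : ∀ p ∈ L, p.2.1 < 32) (h : entCancel L = true) :
    (mat L : Matrix I27 I27 F) = 0 := by
  ext a b
  have := sum_eq_zero_of_cancels (R := F) h
    (fun k => Matrix.single (ix (k / 32)) (ix (k % 32)) (1 : F) a b)
  rw [List.map_map] at this
  rw [mat, Matrix.zero_apply, ← this]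
  clear this h
  induction L with
  | nil => simp
  | cons p L ih =>
    have hp := hL p (List.mem_cons_self ..)
    rw [List.map_cons, List.sum_cons, Matrix.add_apply,
      ih fun q hq => hL q (List.mem_cons_of_mem _ hq), List.map_cons, List.sum_cons]
    congr 1
    show _ = (p.2.2 : F) * _
    simp only [Function.comp]
    rw [show (p.1 * 32 + p.2.1) / 32 = p.1 by omega, show (p.1 * 32 + p.2.1) % 32 = p.2.1 by omega]
    simp [Matrix.single_apply]

theorem ent_of_ge {r : ℕ} (h : ¬ r < 72) : ent r = [] := by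
  simp [ent, Array.getD, entT, show ¬ r < 72 from h]

theorem ent_lt {r : ℕ} {p : ℕ × ℕ × ℤ} (hp : p ∈ ent r) : p.1 < 27 ∧ p.2.1 < 27 := by
  by_cases h : r < 72
  · exact ent_bounds ⟨r, h⟩ p hp
  · rw [ent_of_ge h] at hp; simp at hp

theorem ent_sq (r : ℕ) : (mat (ent r) * mat (ent r) : Matrix I27 I27 F) = 0 := by
  rw [mat_comp _ _ (fun p hp => (ent_lt hp).2) fun p hp => (ent_lt hp).1]
  by_cases h : r < 72
  · rw [ent_sq_fin ⟨r, h⟩]; rfl
  · rw [ent_of_ge h]; rfl

/-- A root element on the 27 coordinates. -/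
def rootEl (r : ℕ) (t : F) : GL I27 F where
  val := 1 + t • mat (ent r)
  inv := 1 + (-t) • mat (ent r)
  val_inv := by
    rw [add_mul, mul_add, mul_add, smul_mul_smul_comm, ent_sq, smul_zero, one_mul, mul_one,
      one_mul, add_zero, add_assoc, ← add_smul, neg_add_cancel, zero_smul, add_zero]
  inv_val := by
    rw [add_mul, mul_add, mul_add, smul_mul_smul_comm, ent_sq, smul_zero, one_mul, mul_one,
      one_mul, add_zero, add_assoc, ← add_smul, add_neg_cancel, zero_smul, add_zero]

theorem rootEl_val (r : ℕ) (t : F) :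
    ((rootEl r t : GL I27 F) : Matrix I27 I27 F) = 1 + t • mat (ent r) := rfl

theorem rootEl_mul (r : ℕ) (t t' : F) : rootEl r t * rootEl r t' = rootEl r (t + t') := by
  refine Units.ext ?_
  rw [Units.val_mul, rootEl_val, rootEl_val, rootEl_val, add_mul, mul_add, mul_add,
    smul_mul_smul_comm, ent_sq, smul_zero, one_mul, mul_one, one_mul, add_zero, add_assoc,
    ← add_smul, add_comm t' t]

theorem rootEl_of_ge {r : ℕ} (h : ¬ r < 72) (t : F) : rootEl r t = 1 := by
  refine Units.ext ?_
  rw [rootEl_val, ent_of_ge h]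
  simp [mat]

theorem act_rootEl (r : ℕ) (t : F) (v : I27 → F) {n : ℕ} (hn : n < 27) :
    act (rootEl r t) v (ix n) = v (ix n) + t * rowSum (ent r) v n := by
  rw [act, rootEl_val, Matrix.add_mulVec, Matrix.one_mulVec, Matrix.smul_mulVec, Pi.add_apply,
    Pi.smul_apply, mat_mulVec _ (fun p hp => (ent_lt hp).1) v hn, smul_eq_mul]

/-! ### Invariance of the form -/

/-- The value of a key. -/
def kval (t : F) (v : I27 → F) (k : ℕ) : F :=
  t ^ (k / 32768) * (v (ix (k / 1024 % 32)) * v (ix (k / 32 % 32)) * v (ix (k % 32)))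

theorem kval_key (t : F) (v : I27 → F) {d a b c : ℕ} (ha : a < 27) (hb : b < 27) (hc : c < 27) :
    kval t v (key d a b c) = t ^ d * (v (ix a) * v (ix b) * v (ix c)) := by
  have h : ∀ x y z : ℕ, x < 32 → y < 32 → z < 32 → kval t v (((d * 32 + x) * 32 + y) * 32 + z) =
      t ^ d * (v (ix x) * v (ix y) * v (ix z)) := fun x y z hx hy hz => by
    rw [kval, show (((d * 32 + x) * 32 + y) * 32 + z) / 32768 = d by omega,
      show (((d * 32 + x) * 32 + y) * 32 + z) / 1024 % 32 = x by omega,
      show (((d * 32 + x) * 32 + y) * 32 + z) / 32 % 32 = y by omega,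
      show (((d * 32 + x) * 32 + y) * 32 + z) % 32 = z by omega]
  unfold key
  split_ifs <;> rw [h _ _ _ (by omega) (by omega) (by omega)] <;> ring

theorem mul_list_sum (a : F) (l : List F) : a * l.sum = (l.map fun z => a * z).sum := by
  induction l with
  | nil => simp
  | cons z l ih => rw [List.sum_cons, List.map_cons, List.sum_cons, mul_add, ih]

theorem sum_three {α : Type*} (la lb lc : List α) (f : α → F) :
    ((la.flatMap fun A => lb.flatMap fun B => lc.map fun C => f A * f B * f C)).sum =
      (la.map f).sum * (lb.map f).sum * (lc.map f).sum := by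
  induction la with
  | nil => simp
  | cons A la ih =>
    rw [List.flatMap_cons, List.sum_append, ih, List.map_cons, List.sum_cons, add_mul, add_mul]
    congr 1
    clear ih
    induction lb with
    | nil => simp
    | cons B lb ihb =>
      rw [List.flatMap_cons, List.sum_append, ihb, List.sum_map_mul_left, List.map_cons,
        List.sum_cons, mul_add, add_mul]

theorem lin_lt {r n : ℕ} (hn : n < 27) {A : (ℕ × ℕ) × ℤ} (hA : A ∈ lin r n) : A.1.2 < 27 := by
  rcases List.mem_cons.1 hA with rfl | hA
  · exact hn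
  · obtain ⟨p, hp, rfl⟩ := List.mem_map.1 hA
    exact (ent_lt (List.mem_filter.1 hp).1).2

theorem lin_sum (r : ℕ) (t : F) (v : I27 → F) {n : ℕ} (hn : n < 27) :
    ((lin r n).map fun A => (A.2 : F) * (t ^ A.1.1 * v (ix A.1.2))).sum =
      act (rootEl r t) v (ix n) := by
  rw [act_rootEl r t v hn, lin, List.map_cons, List.sum_cons, List.map_map]
  simp only [Int.cast_one, pow_zero, one_mul]
  rw [rowSum, ← List.sum_map_mul_left]
  refine congrArg (fun z => v (ix n) + z) (congrArg List.sum (List.map_congr_left fun p _ => ?_))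
  simp only [Function.comp, pow_one]
  ring

theorem tForm_rootEl (r : ℕ) (t : F) (v : I27 → F) :
    tForm mons (act (rootEl r t) v) = tForm mons v := by
  by_cases hr : r < 72
  swap
  · rw [rootEl_of_ge hr, act_one]
  refine sub_eq_zero.1 ?_
  rw [← sum_eq_zero_of_cancels (R := F) (expand_cancels ⟨r, hr⟩) (kval t v)]
  have key' : ∀ L : List (ℤ × ℕ × ℕ × ℕ), (∀ m ∈ L, m.2.1 < 27 ∧ m.2.2.1 < 27 ∧ m.2.2.2 < 27) →
      tForm L (act (rootEl r t) v) - tForm L v = ((L.flatMap fun m =>
        ((lin r m.2.1).flatMap fun A => (lin r m.2.2.1).flatMap fun B =>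
          (lin r m.2.2.2).map fun C =>
            (key (A.1.1 + B.1.1 + C.1.1) A.1.2 B.1.2 C.1.2, m.1 * A.2 * B.2 * C.2)) ++
        [(key 0 m.2.1 m.2.2.1 m.2.2.2, -m.1)]).map fun p => (p.2 : F) * kval t v p.1).sum := by
    intro L hL
    induction L with
    | nil => simp [tForm]
    | cons m L ih =>
      obtain ⟨h1, h2, h3⟩ := hL m (List.mem_cons_self ..)
      have ih' := ih fun q hq => hL q (List.mem_cons_of_mem _ hq)
      simp only [tForm, List.map_cons, List.sum_cons, List.flatMap_cons, List.map_append,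
        List.sum_append, List.map_nil, List.sum_nil, add_zero] at ih' ⊢
      rw [← ih', kval_key t v h1 h2 h3, ← lin_sum r t v h1, ← lin_sum r t v h2, ← lin_sum r t v h3,
        ← sum_three, List.map_flatMap]
      simp only [List.map_flatMap, List.map_map]
      rw [mul_list_sum]
      simp only [List.map_flatMap, List.map_map, Int.cast_neg, pow_zero, one_mul]
      have e : ((lin r m.2.1).flatMap fun A => (lin r m.2.2.1).flatMap fun B =>
          (lin r m.2.2.2).map ((fun z => (m.1 : F) * z) ∘ fun C =>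
            (A.2 : F) * (t ^ A.1.1 * v (ix A.1.2)) * ((B.2 : F) * (t ^ B.1.1 * v (ix B.1.2))) *
              ((C.2 : F) * (t ^ C.1.1 * v (ix C.1.2))))) =
        (lin r m.2.1).flatMap fun A => (lin r m.2.2.1).flatMap fun B =>
          (lin r m.2.2.2).map ((fun p : ℕ × ℤ => (p.2 : F) * kval t v p.1) ∘ fun C =>
            (key (A.1.1 + B.1.1 + C.1.1) A.1.2 B.1.2 C.1.2, m.1 * A.2 * B.2 * C.2)) := by
        refine List.flatMap_congr fun A hA => List.flatMap_congr fun B hB =>
          List.map_congr_left fun C hC => ?_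
        simp only [Function.comp, kval_key t v (lin_lt h1 hA) (lin_lt h2 hB) (lin_lt h3 hC),
          pow_add, Int.cast_mul]
        ring
      rw [e]
      ring
  exact key' mons mons_lt

theorem rootEl_mem (r : ℕ) (t : F) : rootEl r t ∈ E6univ F :=
  mem_E6univ.2 (tForm_rootEl r t)

/-! ### The commutator formula -/

theorem comp_lt (r s : ℕ) : ∀ p ∈ comp (ent r) (ent s), p.1 < 27 ∧ p.2.1 < 27 := by
  intro p hp
  obtain ⟨a, ha, hp⟩ := List.mem_flatMap.1 hp
  obtain ⟨b, hb, rfl⟩ := List.mem_map.1 hp
  exact ⟨(ent_lt ha).1, (ent_lt (List.mem_filter.1 hb).1).2⟩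

theorem scaleL_lt {C : ℤ} {L : List (ℕ × ℕ × ℤ)} (h : ∀ p ∈ L, p.1 < 27 ∧ p.2.1 < 27) :
    ∀ p ∈ scaleL C L, p.1 < 27 ∧ p.2.1 < 27 := by
  intro p hp
  obtain ⟨a, ha, rfl⟩ := List.mem_map.1 hp
  exact h a ha

theorem mat_comp_ent (r s : ℕ) :
    (mat (ent r) * mat (ent s) : Matrix I27 I27 F) = mat (comp (ent r) (ent s)) :=
  mat_comp _ _ (fun p hp => (ent_lt hp).2) fun p hp => (ent_lt hp).1

theorem rootEl_comm {r s : ℕ} (hr : r < 72) (hs : s < 72) (hsr : s ≠ r)
    (hsn : s ≠ chevE6.neg r) (t v : F) :
    rootEl s v * rootEl r t = rootEl r t * rootEl s v *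
      ((chevE6.commWord F r s t v).map fun p => rootEl p.1 p.2).prod := by
  have h := rels ⟨r, hr⟩ ⟨s, hs⟩ hsr hsn
  rw [ChevalleyDatum.commWord]
  generalize chevE6.commTerms r s = l at h ⊢
  match l, h with
  | [], h =>
    simp only [relOk] at h
    have e := mat_eq_zero (F := F) (fun p hp => by
      rcases List.mem_append.1 hp with hp | hp
      · exact lt_trans (comp_lt s r p hp).2 (by norm_num)
      · exact lt_trans (scaleL_lt (comp_lt r s) p hp).2 (by norm_num)) h
    rw [mat_append, mat_scaleL, ← mat_comp_ent, ← mat_comp_ent] at e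
    simp only [Int.cast_neg, Int.cast_one, neg_smul, one_smul, ← sub_eq_add_neg, sub_eq_zero] at e
    simp only [List.map_nil, List.prod_nil, mul_one]
    refine Units.ext ?_
    simp only [Units.val_mul, rootEl_val, mul_add, add_mul, one_mul, mul_one, smul_mul_smul_comm,
      e, mul_comm v t]
    abel
  | [(k, C, i, j)], h =>
    simp only [relOk, Bool.and_eq_true] at h
    obtain ⟨⟨⟨⟨⟨hk, hi⟩, hj⟩, h1⟩, h2⟩, h3⟩ := h
    obtain rfl := Nat.eq_of_beq_eq_true hi
    obtain rfl := Nat.eq_of_beq_eq_true hj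
    have e := mat_eq_zero (F := F) (fun p hp => by
      rcases List.mem_append.1 hp with hp | hp
      · rcases List.mem_append.1 hp with hp | hp
        · exact lt_trans (comp_lt s r p hp).2 (by norm_num)
        · exact lt_trans (scaleL_lt (fun q hq => ent_lt hq) p hp).2 (by norm_num)
      · exact lt_trans (scaleL_lt (comp_lt r s) p hp).2 (by norm_num)) h1
    rw [mat_append, mat_append, mat_scaleL, mat_scaleL, ← mat_comp_ent, ← mat_comp_ent] at e
    simp only [Int.cast_neg, Int.cast_one, neg_smul, one_smul, ← sub_eq_add_neg, sub_eq_zero] at e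
    have z1 : (mat (ent r) * mat (ent k) : Matrix I27 I27 F) = 0 := by
      rw [mat_comp_ent]
      exact mat_eq_zero (fun p hp => lt_trans (comp_lt r k p hp).2 (by norm_num)) h2
    have z2 : (mat (ent s) * mat (ent k) : Matrix I27 I27 F) = 0 := by
      rw [mat_comp_ent]
      exact mat_eq_zero (fun p hp => lt_trans (comp_lt s k p hp).2 (by norm_num)) h3
    have z3 : (mat (ent r) * mat (ent s) * mat (ent k) : Matrix I27 I27 F) = 0 := by
      rw [mul_assoc, z2, mul_zero]
    simp only [List.map_cons, List.map_nil, List.prod_cons, List.prod_nil, mul_one, pow_one]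
    refine Units.ext ?_
    simp only [Units.val_mul, rootEl_val, mul_add, add_mul, one_mul, mul_one, smul_mul_smul_comm,
      z1, z2, z3, smul_zero, add_zero]
    rw [← e]
    simp only [smul_add, smul_smul]
    match_scalars <;> ring

end Cfsg.Agent.Chev.E6Cubic
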