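import Cfsg.Agent.Chev.E6Cubic.Levi

/-!
An isometry of the cubic form fixing the highest weight vector is a product of root elements.
-/

set_option autoImplicit false
set_option maxRecDepth 100000
set_option maxHeartbeats 1000000

namespace Cfsg.Agent.Chev.E6Cubic

open Cfsg.Lie Matrix
open scoped MatrixGroups

variable {F : Type*} [Field F]

theorem dForm_eb_left {j k : ℕ} (hj : j < 27) (hk : k < 27) (z : I27 → F) :
    dForm mons (eb k) z (eb j) = ((der2 j k).map fun p => (p.1 : F) * z (ix p.2)).sum := by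
  rw [dForm_eb hj]
  have key : ∀ L : List (ℤ × ℕ × ℕ), (∀ p ∈ L, p.2.1 < 27 ∧ p.2.2 < 27) →
      (L.map fun p => (p.1 : F) * (eb (F := F) k (ix p.2.1) * z (ix p.2.2) +
          eb (F := F) k (ix p.2.2) * z (ix p.2.1))).sum =
        ((L.flatMap fun p => (if p.2.1 = k then [(p.1, p.2.2)] else []) ++
          (if p.2.2 = k then [(p.1, p.2.1)] else [])).map fun p => (p.1 : F) * z (ix p.2)).sum := by
    intro L hL
    induction L with
    | nil => simp
    | cons p L ih =>
      obtain ⟨h1, h2⟩ := hL p (List.mem_cons_self ..)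
      simp only [List.map_cons, List.sum_cons, List.flatMap_cons, List.map_append, List.sum_append]
      rw [ih fun q hq => hL q (List.mem_cons_of_mem _ hq), eb_apply hk h1, eb_apply hk h2]
      split_ifs <;> simp <;> ring
  exact key _ (der_lt j hj)

theorem dForm_proj2 {n k l : ℕ} (hn : n ∈ S1) {x y : I27 → F} {d d' : F}
    (hx : ∀ a ∈ S2, x (ix a) = if a = k then d else 0)
    (hy : ∀ a ∈ S2, y (ix a) = if a = l then d' else 0) :
    (k ∈ S2) → (l ∈ S2) → dForm mons x y (eb n) =
      d * ((der2 n k).map fun p => (p.1 : F) * y (ix p.2)).sum +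
      d' * ((der2 n l).map fun p => (p.1 : F) * x (ix p.2)).sum := by
  intro hk hl
  rw [dForm_eb (S_lt n (List.mem_append_left _ hn)).1]
  have key : ∀ L : List (ℤ × ℕ × ℕ),
      (∀ p ∈ L, (p.2.1 ∈ S2 ∧ p.2.2 ∈ S1) ∨ (p.2.1 ∈ S1 ∧ p.2.2 ∈ S2)) →
      (L.map fun p => (p.1 : F) * (x (ix p.2.1) * y (ix p.2.2) + x (ix p.2.2) * y (ix p.2.1))).sum =
        d * ((L.flatMap fun p => (if p.2.1 = k then [(p.1, p.2.2)] else []) ++
          (if p.2.2 = k then [(p.1, p.2.1)] else [])).map fun p => (p.1 : F) * y (ix p.2)).sum +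
        d' * ((L.flatMap fun p => (if p.2.1 = l then [(p.1, p.2.2)] else []) ++
          (if p.2.2 = l then [(p.1, p.2.1)] else [])).map fun p => (p.1 : F) * x (ix p.2)).sum := by
    intro L hL
    induction L with
    | nil => simp
    | cons p L ih =>
      simp only [List.map_cons, List.sum_cons, List.flatMap_cons, List.map_append, List.sum_append]
      rw [ih fun q hq => hL q (List.mem_cons_of_mem _ hq)]
      rcases hL p (List.mem_cons_self ..) with ⟨a2, b1⟩ | ⟨a1, b2⟩
      · have e1 : ¬ p.2.2 = k := fun e => S_disj _ b1 (e.symm ▸ hk)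
        have e2 : ¬ p.2.2 = l := fun e => S_disj _ b1 (e.symm ▸ hl)
        rw [hx _ a2, hy _ a2, if_neg e1, if_neg e2]
        split_ifs <;> simp <;> ring
      · have e1 : ¬ p.2.1 = k := fun e => S_disj _ a1 (e.symm ▸ hk)
        have e2 : ¬ p.2.1 = l := fun e => S_disj _ a1 (e.symm ▸ hl)
        rw [hx _ b2, hy _ b2, if_neg e1, if_neg e2]
        split_ifs <;> simp <;> ring
  exact key _ (der_S1 n hn)

theorem unitMate_spec {n k i : ℕ} (h : unitMate n k i = true) :
    ∃ C : F, C ≠ 0 ∧ ∀ z : I27 → F,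
      ((der2 n k).map fun p => (p.1 : F) * z (ix p.2)).sum = C * z (ix i) := by
  unfold unitMate at h
  split at h
  next C c hl =>
    simp only [Bool.and_eq_true, decide_eq_true_eq] at h
    obtain ⟨rfl, hC⟩ := h
    exact ⟨(C : F), by rcases hC with rfl | rfl <;> simp, fun z => by rw [hl]; simp⟩
  next => simp at h

theorem dForm_top_eb (z : I27 → F) {j : ℕ} (hj : j ∈ S1) :
    dForm mons z (eb j) (eb 0) = 0 := by
  rw [dForm_top]
  exact bF_zero fun n hn => by
    rw [eb_apply (S_lt j (List.mem_append_left _ hj)).1 (S_lt n (List.mem_append_right _ hn)).1,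
      if_neg fun e : n = j => S_disj j hj (e ▸ hn)]

theorem Mono.col1_S2 {s : Bool} {g : GL I27 F} (hg : Mono s g) {j : ℕ} (hj : j ∈ S1) :
    ∀ n ∈ S2, act g (eb j) (ix n) = 0 := fun n hn => by
  obtain ⟨k, hk, hkn⟩ := (sw_spec s).2 n hn
  have hsk := (sw_spec s).1 k hk
  obtain ⟨d, hd, hc⟩ := hg.col k hk
  obtain ⟨ε, hε, hb⟩ := bF_single (F := F) hsk
  have e := bF_act hg.mem hg.top (eb j) (eb k)
  rw [hb _ _ d hc, hkn, bF_comm, bF_zero fun a ha => by
    rw [eb_apply (S_lt j (List.mem_append_left _ hj)).1 (S_lt a (List.mem_append_right _ ha)).1,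
      if_neg fun e : a = j => S_disj j hj (e ▸ ha)]] at e
  exact ((mul_eq_zero.1 ((mul_eq_zero.1 e).resolve_left hε)).resolve_left hd)

theorem Mono.col1_S1 {s : Bool} {g : GL I27 F} (hg : Mono s g) {i j : ℕ} (hi : i ∈ S1)
    (hj : j ∈ S1) (h : s = true ∨ i ≠ j) : act g (eb j) (ix i) = 0 := by
  obtain ⟨k, hk, h0, n, hn, hu⟩ := sep s i hi j hj h
  obtain ⟨d, hd, hc⟩ := hg.col k hk
  obtain ⟨C, hC, hCz⟩ := unitMate_spec (F := F) hu
  have lhs := dForm_proj2 (d' := (0 : F)) hn hc (y := act g (eb j)) (l := k)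
    (fun a ha => by rw [hg.col1_S2 hj a ha, ite_self]) ((sw_spec s).1 k hk) hk
  rw [hCz, zero_mul, add_zero, ← act_surj g (eb n), dForm_act hg.mem, dForm_rot, dForm_rot] at lhs
  rw [dForm_comm, dForm_eb_left (S_lt j (List.mem_append_left _ hj)).1
    (S_lt k (List.mem_append_right _ hk)).1, h0] at lhs
  simp only [List.map_nil, List.sum_nil] at lhs
  exact (mul_eq_zero.1 ((mul_eq_zero.1 lhs.symm).resolve_left hd)).resolve_left hC

theorem Mono.diag_ne {s : Bool} {g : GL I27 F} (hg : Mono s g) {j : ℕ} (hj : j ∈ S1) :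
    s = false ∧ act g (eb j) (ix j) ≠ 0 := by
  have key : (∀ i ∈ S1, act g (eb j) (ix i) = 0) → False := fun h => by
    have e : act g (eb j) = act g (act g (eb j) (ix 0) • eb 0) := by
      rw [act_smul, hg.top]
      refine vec_ext fun n hn => ?_
      rw [Pi.smul_apply, eb_apply (by decide) hn, smul_eq_mul]
      rcases S_cover n hn with rfl | h1 | h2
      · rw [if_pos rfl, mul_one]
      · rw [h n h1, if_neg (S_lt n (List.mem_append_left _ h1)).2, mul_zero]
      · rw [hg.col1_S2 hj n h2, if_neg (S_lt n (List.mem_append_right _ h2)).2, mul_zero]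
    have := congrFun (act_inj g e) (ix j)
    obtain ⟨hjl, hj0⟩ := S_lt j (List.mem_append_left _ hj)
    rw [eb_apply hjl hjl, Pi.smul_apply, eb_apply (by decide) hjl, if_pos rfl, if_neg hj0,
      smul_zero] at this
    exact one_ne_zero this
  cases s
  · exact ⟨rfl, fun h0 => key fun i hi => by
      by_cases hij : i = j
      · rw [hij, h0]
      · exact hg.col1_S1 hi hj (.inr hij)⟩
  · exact (key fun i hi => hg.col1_S1 hi hj (.inl rfl)).elim

/-- The diagonal coefficient at a weight. -/
def dg (g : GL I27 F) (n : ℕ) : F := act g (eb n) (ix n)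

/-- Triangular with respect to the degrees. -/
structure Tri (g : GL I27 F) : Prop where
  mem : g ∈ E6univ F
  top : act g (eb 0) = eb 0
  low : ∀ a < 27, ∀ n < 27, (deg a < deg n ∨ (deg a = deg n ∧ n ≠ a)) → act g (eb a) (ix n) = 0
  ne : ∀ a < 27, dg g a ≠ 0

theorem deg_of_S1 {n : ℕ} (h : n ∈ S1) : deg n = 1 := by
  rw [deg, if_neg (S_lt n (List.mem_append_left _ h)).2, if_pos h]

theorem deg_of_S2 {n : ℕ} (h : n ∈ S2) : deg n = 2 := by
  rw [deg, if_neg (S_lt n (List.mem_append_right _ h)).2, if_neg fun e => S_disj n e h]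

theorem Mono.tri {s : Bool} {g : GL I27 F} (hg : Mono s g) : Tri g := by
  have hs : s = false := (hg.diag_ne (show (1 : ℕ) ∈ S1 by decide)).1
  subst hs
  refine ⟨hg.mem, hg.top, fun a ha n hn h => ?_, fun a ha => ?_⟩
  · rcases S_cover a ha with rfl | a1 | a2
    · rw [hg.top, eb_apply (by decide) hn, if_neg]
      rintro rfl
      simp at h
    · rw [deg_of_S1 a1] at h
      rcases S_cover n hn with rfl | n1 | n2
      · simp [deg] at h
      · rw [deg_of_S1 n1] at h
        exact hg.col1_S1 n1 a1 (.inr (by omega))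
      · exact hg.col1_S2 a1 n n2
    · rw [deg_of_S2 a2] at h
      rcases S_cover n hn with rfl | n1 | n2
      · simp [deg] at h
      · rw [deg_of_S1 n1] at h; omega
      · obtain ⟨d, -, hc⟩ := hg.col a a2
        rw [deg_of_S2 n2] at h
        rw [hc n n2, if_neg]
        simp only [sw]
        simp
        omega
  · rcases S_cover a ha with rfl | a1 | a2
    · rw [dg, hg.top, eb_apply (by decide) (by decide), if_pos rfl]
      exact one_ne_zero
    · exact (hg.diag_ne a1).2
    · obtain ⟨d, hd, hc⟩ := hg.col a a2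
      rw [dg, hc a a2, if_pos (by simp [sw])]
      exact hd

theorem Tri.tri_prod {g : GL I27 F} (hg : Tri g) {a b c : ℕ} (ha : a < 27) (hb : b < 27)
    (hc : c < 27) (hdeg : deg a + deg b + deg c = 4) :
    dForm mons (act g (eb a)) (act g (eb b)) (act g (eb c)) =
      dg g a * dg g b * dg g c * dForm mons (eb a) (eb b) (eb c) := by
  have term : ∀ p q r, p < 27 → q < 27 → r < 27 → deg p + deg q + deg r = 4 →
      act g (eb a) (ix p) * act g (eb b) (ix q) * act g (eb c) (ix r) =
        dg g a * dg g b * dg g c *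
          (eb (F := F) a (ix p) * eb (F := F) b (ix q) * eb (F := F) c (ix r)) := by
    intro p q r hp hq hr hs
    rw [eb_apply ha hp, eb_apply hb hq, eb_apply hc hr]
    by_cases h1 : p = a
    · by_cases h2 : q = b
      · by_cases h3 : r = c
        · rw [h1, h2, h3]; simp [dg]
        · rw [h1, h2, hg.low c hc r hr (.inr ⟨by subst h1 h2; omega, h3⟩), if_neg h3]; simp
      · rw [if_neg h2]
        rcases lt_or_ge (deg b) (deg q) with hlt | hge
        · rw [hg.low b hb q hq (.inl hlt)]; simp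
        rcases eq_or_lt_of_le hge with he | hlt
        · rw [hg.low b hb q hq (.inr ⟨he.symm, h2⟩)]; simp
        · rw [hg.low c hc r hr (.inl (by subst h1; omega))]; simp
    · rw [if_neg h1]
      rcases lt_or_ge (deg a) (deg p) with hlt | hge
      · rw [hg.low a ha p hp (.inl hlt)]; simp
      rcases eq_or_lt_of_le hge with he | hlt
      · rw [hg.low a ha p hp (.inr ⟨he.symm, h1⟩)]; simp
      rcases lt_or_ge (deg b) (deg q) with hlt' | hge'
      · rw [hg.low b hb q hq (.inl hlt')]; simp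
      · rw [hg.low c hc r hr (.inl (by omega))]; simp
  have key : ∀ L : List (ℤ × ℕ × ℕ × ℕ),
      (∀ m ∈ L, (m.2.1 < 27 ∧ m.2.2.1 < 27 ∧ m.2.2.2 < 27) ∧
        deg m.2.1 + deg m.2.2.1 + deg m.2.2.2 = 4) →
      dForm L (act g (eb a)) (act g (eb b)) (act g (eb c)) =
        dg g a * dg g b * dg g c * dForm L (eb a) (eb b) (eb c) := by
    intro L hL
    induction L with
    | nil => simp [dForm]
    | cons m L ih =>
      obtain ⟨⟨h1, h2, h3⟩, hs⟩ := hL m (List.mem_cons_self ..)
      have ih' := ih fun q hq => hL q (List.mem_cons_of_mem _ hq)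
      simp only [dForm, List.map_cons, List.sum_cons] at ih' ⊢
      rw [ih']
      linear_combination (m.1 : F) * term _ _ _ h1 h2 h3 hs + (m.1 : F) * term _ _ _ h1 h3 h2 (by omega) +
        (m.1 : F) * term _ _ _ h2 h1 h3 (by omega) + (m.1 : F) * term _ _ _ h2 h3 h1 (by omega) +
        (m.1 : F) * term _ _ _ h3 h1 h2 (by omega) + (m.1 : F) * term _ _ _ h3 h2 h1 (by omega)
  exact key mons fun m hm => ⟨mons_lt m hm, mons_deg m hm⟩

theorem Tri.dg_mul {g : GL I27 F} (hg : Tri g) {p : ℕ × ℕ × ℕ} (hp : p ∈ propT) :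
    dg g p.1 * dg g p.2.1 * dg g p.2.2 = 1 := by
  obtain ⟨ha, hb, hc, hdeg, hu⟩ := prop_terms p hp
  obtain ⟨C, hC, hCz⟩ := unitMate_spec (F := F) hu
  have hD : dForm mons (eb (F := F) p.1) (eb p.2.1) (eb p.2.2) = C := by
    rw [dForm_eb_left hc ha, hCz, eb_apply hb hb, if_pos rfl, mul_one]
  have e := hg.tri_prod ha hb hc hdeg
  rw [dForm_act hg.mem, hD] at e
  exact mul_right_cancel₀ hC (by rw [← e, one_mul])

theorem prop_all {g : GL I27 F} (hg : Tri g) : ∀ (L : List (ℕ × ℕ × ℕ)) (K : List ℕ),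
    (∀ p ∈ L, p ∈ propT) → propOk K L = true → (∀ k ∈ K, dg g k = 1) → ∀ n < 27, dg g n = 1
  | [], K, _, h, hK, n, hn => hK n (by
      have := List.all_eq_true.1 h n (List.mem_range.2 hn)
      simpa using this)
  | (a, b, c) :: L, K, hL, h, hK, n, hn => by
    simp only [propOk, Bool.and_eq_true, decide_eq_true_eq] at h
    refine prop_all hg L (c :: K) (fun p hp => hL p (List.mem_cons_of_mem _ hp)) h.2 (fun k hk => ?_) n hn
    rcases List.mem_cons.1 hk with rfl | hk
    · have e := hg.dg_mul (hL _ (List.mem_cons_self ..))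
      simpa [hK a h.1.1, hK b h.1.2] using e
    · exact hK k hk

/-! ### The torus -/

/-- The diagonal element of a root. -/
def torEl (r : ℕ) (s : F) : GL I27 F :=
  rootEl (chevE6.neg r) (s⁻¹ - 1) * rootEl r 1 * rootEl (chevE6.neg r) (s - 1) * rootEl r (-s⁻¹)

theorem torEl_mem (r : ℕ) (s : F) : torEl r s ∈ gen0 F :=
  Subgroup.mul_mem _ (Subgroup.mul_mem _ (Subgroup.mul_mem _ (rootEl_gen0 _ _) (rootEl_gen0 _ _))
    (rootEl_gen0 _ _)) (rootEl_gen0 _ _)

theorem torEl_act {r n : ℕ} (hn : n < 27) (h : frameRow r n = true) {s : F} (hs : s ≠ 0) :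
    ((noRow r n && noRow (chevE6.neg r) n) = true ∧ ∀ v, act (torEl r s) v (ix n) = v (ix n)) ∨
    ∃ inv : Bool, ∀ s : F, s ≠ 0 → ∀ v,
      act (torEl r s) v (ix n) = (if inv then s⁻¹ else s) * v (ix n) := by
  rw [frameRow, Bool.or_eq_true] at h
  rcases h with h | h
  · refine .inl ⟨h, fun v => ?_⟩
    rw [Bool.and_eq_true] at h
    simp only [torEl, act_mul, act_rootEl _ _ _ hn, rowSum_noRow h.1, rowSum_noRow h.2, mul_zero,
      add_zero]
  · obtain ⟨j, hj, h⟩ := List.any_eq_true.1 h
    have hj' := List.mem_range.1 hj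
    rw [Bool.or_eq_true] at h
    refine .inr ?_
    rcases h with h | h
    · split at h
      next a b c a' b' c' hl hl' =>
        simp only [Bool.and_eq_true, decide_eq_true_eq] at h
        obtain ⟨⟨⟨⟨⟨rfl, hbn⟩, rfl⟩, hc⟩, h1⟩, h2⟩ := h
        refine ⟨false, fun s hs v => ?_⟩
        have e1 : ∀ v : I27 → F, rowSum (ent r) v n = (c : F) * v (ix b) := fun v => by
          rw [rowL] at hl; rw [rowSum, hl]; simp
        have e2 : ∀ v : I27 → F, rowSum (ent (chevE6.neg r)) v b = (c : F) * v (ix n) := fun v => by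
          rw [rowL] at hl'; rw [rowSum, hl']; simp [hbn]
        have hcc : (c : F) * c = 1 := by rcases hc with rfl | rfl <;> simp
        simp only [torEl, act_mul, act_rootEl _ _ _ hn, act_rootEl _ _ _ hj', e1, e2,
          rowSum_noRow h1, rowSum_noRow h2, mul_zero, add_zero]
        simp only [Bool.false_eq_true, if_false]
        field_simp
        linear_combination (s - 1) * (s * v (ix n) - (c : F) * v (ix b)) * hcc
      next => simp at h
    · split at h
      next a b c a' b' c' hl hl' =>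
        simp only [Bool.and_eq_true, decide_eq_true_eq] at h
        obtain ⟨⟨⟨⟨⟨rfl, hbn⟩, rfl⟩, hc⟩, h1⟩, h2⟩ := h
        refine ⟨true, fun s hs v => ?_⟩
        have e2 : ∀ v : I27 → F, rowSum (ent (chevE6.neg r)) v n = (c : F) * v (ix b) := fun v => by
          rw [rowL] at hl; rw [rowSum, hl]; simp
        have e1 : ∀ v : I27 → F, rowSum (ent r) v b = (c : F) * v (ix n) := fun v => by
          rw [rowL] at hl'; rw [rowSum, hl']; simp [hbn]
        have hcc : (c : F) * c = 1 := by rcases hc with rfl | rfl <;> simp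
        simp only [torEl, act_mul, act_rootEl _ _ _ hn, act_rootEl _ _ _ hj', e1, e2,
          rowSum_noRow h1, rowSum_noRow h2, mul_zero, add_zero, if_true]
        rcases hc with rfl | rfl <;> push_cast <;> field_simp <;> ring
      next => simp at h

theorem exists_frame {g : GL I27 F} (hg : Tri g) : ∀ i ≤ 5, ∃ h ∈ gen0 F, Tri (h * g) ∧
    ∀ f ∈ frame.take i, dg (h * g) f.2 = 1 := by
  intro i
  induction i with
  | zero => exact fun _ => ⟨1, Subgroup.one_mem _, by rwa [one_mul], by simp⟩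
  | succ i ih =>
    intro hi
    obtain ⟨h, hh, ht, hd⟩ := ih (by omega)
    obtain ⟨⟨r, j⟩, hf⟩ : ∃ f, frame[i]? = some f :=
      ⟨_, List.getElem?_eq_getElem (by simp [frame]; omega)⟩
    obtain ⟨-, hjl, hrows⟩ := frame_rows _ (List.mem_of_getElem? hf)
    obtain ⟨hjj, h0, h0', hprev⟩ := frame_order ⟨i, by omega⟩ _ hf
    simp only at hjl hrows hjj h0 h0' hprev
    obtain ⟨inv, hinv⟩ := (torEl_act hjl (hrows j hjl) (one_ne_zero (α := F))).resolve_left
      fun e => by rw [e.1] at hjj; exact Bool.noConfusion hjj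
    set d := dg (h * g) j with hdd
    have hdne : d ≠ 0 := ht.ne j hjl
    set s : F := if inv then d else d⁻¹ with hs
    have hsne : s ≠ 0 := by rw [hs]; split_ifs <;> simp [hdne]
    have fac : ∀ n < 27, ∃ c : F, c ≠ 0 ∧ ∀ v, act (torEl r s) v (ix n) = c * v (ix n) :=
      fun n hn => by
        rcases torEl_act hn (hrows n hn) hsne with ⟨-, e⟩ | ⟨b, e⟩
        · exact ⟨1, one_ne_zero, fun v => by rw [e, one_mul]⟩
        · exact ⟨_, by split_ifs <;> simp [hsne], e s hsne⟩
    have same : ∀ n < 27, noRow r n = true → noRow (chevE6.neg r) n = true →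
        ∀ v, act (torEl r s) v (ix n) = v (ix n) := fun n hn a b v => by
      simp only [torEl, act_mul, act_rootEl _ _ _ hn, rowSum_noRow a, rowSum_noRow b, mul_zero,
        add_zero]
    refine ⟨torEl r s * h, Subgroup.mul_mem _ (torEl_mem r s) hh, ⟨?_, ?_, ?_, ?_⟩, ?_⟩
    · rw [mul_assoc]; exact Subgroup.mul_mem _ (gen0_le (torEl_mem r s)) ht.mem
    · rw [mul_assoc, act_mul, ht.top]
      refine vec_ext fun n hn => ?_
      by_cases hn0 : n = 0
      · subst hn0; exact same 0 hn h0 h0' _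
      · obtain ⟨c, -, hc⟩ := fac n hn
        rw [hc, eb_apply (by decide) hn, if_neg hn0, mul_zero]
    · intro a ha n hn hlt
      obtain ⟨c, -, hc⟩ := fac n hn
      rw [mul_assoc, act_mul, hc, ht.low a ha n hn hlt, mul_zero]
    · intro a ha
      obtain ⟨c, hc0, hc⟩ := fac a ha
      rw [dg, mul_assoc, act_mul, hc]
      exact mul_ne_zero hc0 (ht.ne a ha)
    · intro f hf'
      rw [List.take_succ, hf, List.mem_append] at hf'
      rcases hf' with hf' | hf'
      · obtain ⟨p1, p2⟩ := hprev f hf'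
        rw [dg, mul_assoc, act_mul, same _ (frame_rows f (List.mem_of_mem_take hf')).2.1 p1 p2]
        exact hd f hf'
      · simp only [Option.toList_some, List.mem_singleton] at hf'
        subst hf'
        rw [dg, mul_assoc, act_mul, hinv s hsne]
        show (if inv then s⁻¹ else s) * d = 1
        rw [hs]
        cases inv <;> simp [hdne]

theorem exists_diag {g : GL I27 F} (hg : Tri g) :
    ∃ h ∈ gen0 F, Tri (h * g) ∧ ∀ n < 27, dg (h * g) n = 1 := by
  obtain ⟨h, hh, ht, hd⟩ := exists_frame hg 5 le_rfl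
  refine ⟨h, hh, ht, prop_all ht propT _ (fun p hp => hp) prop_ok fun k hk => ?_⟩
  rw [List.mem_reverse, List.mem_cons] at hk
  rcases hk with rfl | hk
  · rw [dg, ht.top, eb_apply (by decide) (by decide), if_pos rfl]
  · obtain ⟨f, hf, rfl⟩ := List.mem_map.1 hk
    exact hd f (by rwa [List.take_of_length_le (by simp [frame])])

/-! ### The unipotent radical -/

/-- Triangular with unit diagonal. -/
structure Unit1 (g : GL I27 F) : Prop where
  tri : Tri g
  one : ∀ n < 27, dg g n = 1

theorem exists_alpha {g : GL I27 F} (hg : Unit1 g) : ∀ L : List ℕ, L.Nodup → (∀ j ∈ L, j ∈ S1) →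
    ∃ h ∈ gen0 F, Unit1 (h * g) ∧ ∀ j ∈ L, act (h * g) (eb j) (ix 0) = 0
  | [], _, _ => ⟨1, Subgroup.one_mem _, by rwa [one_mul], by simp⟩
  | j :: L, hnd, hL => by
    rw [List.nodup_cons] at hnd
    obtain ⟨h, hh, hu, hz⟩ := exists_alpha hg L hnd.2 fun a ha => hL a (List.mem_cons_of_mem _ ha)
    have hj := hL j (List.mem_cons_self ..)
    obtain ⟨r, hr, hfix, h2, h1⟩ := raise1 j hj
    obtain ⟨ε, hε, hs⟩ := rowSum_isRow (F := F) hr
    have hjl := (S_lt j (List.mem_append_left _ hj)).1
    set g' := h * g with hg'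
    set u : GL I27 F := rootEl r (-(act g' (eb j) (ix 0) * ε)) with hu'
    have row : ∀ a < 27, ∀ n < 27, n ≠ 0 → (deg a ≤ 1 ∨ n ∈ S2) →
        act u (act g' (eb a)) (ix n) = act g' (eb a) (ix n) := fun a ha n hn hn0 h => by
      rw [hu', act_rootEl _ _ _ hn]
      rcases (S_cover n hn).resolve_left hn0 with n1 | n2
      · refine add_eq_left.2 (mul_eq_zero_of_right _ (List.sum_eq_zero fun x hx => ?_))
        obtain ⟨p, hp, rfl⟩ := List.mem_map.1 hx
        have hp2 := h1 n n1 p hp
        have ha1 : deg a ≤ 1 := h.resolve_right (S_disj n n1)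
        rw [hu.tri.low a ha _ (S_lt _ (List.mem_append_right _ hp2)).1
          (.inl (by rw [deg_of_S2 hp2]; omega)), mul_zero]
      · rw [rowSum_noRow (h2 n n2), mul_zero, add_zero]
    have low' : ∀ a < 27, ∀ n < 27, (deg a < deg n ∨ (deg a = deg n ∧ n ≠ a)) →
        act (u * g') (eb a) (ix n) = 0 := fun a ha n hn h => by
      by_cases hn0 : n = 0
      · subst hn0
        have hd0 : deg 0 = 0 := rfl
        rcases S_cover a ha with rfl | a1 | a2
        · rw [hd0] at h; omega
        · rw [deg_of_S1 a1, hd0] at h; omega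
        · rw [deg_of_S2 a2, hd0] at h; omega
      rw [act_mul, row a ha n hn hn0 ?_]
      · exact hu.tri.low a ha n hn h
      · rcases S_cover a ha with rfl | a1 | a2
        · exact .inl (by simp [deg])
        · exact .inl (deg_of_S1 a1).le
        · right
          rcases (S_cover n hn).resolve_left hn0 with n1 | n2
          · rw [deg_of_S1 n1, deg_of_S2 a2] at h; omega
          · exact n2
    have one' : ∀ n < 27, dg (u * g') n = 1 := fun n hn => by
      by_cases hn0 : n = 0
      · subst hn0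
        rw [dg, act_mul, hu.tri.top, hu', act_fixes0 hfix, eb_apply (by decide) hn, if_pos rfl]
      rw [dg, act_mul, row n hn n hn hn0 ?_]
      · exact hu.one n hn
      · rcases (S_cover n hn).resolve_left hn0 with n1 | n2
        · exact .inl (deg_of_S1 n1).le
        · exact .inr n2
    refine ⟨u * h, Subgroup.mul_mem _ (rootEl_gen0 _ _) hh, ?_, fun a ha => ?_⟩
    · rw [mul_assoc, ← hg']
      exact ⟨⟨Subgroup.mul_mem _ (rootEl_mem _ _) hu.tri.mem,
        by rw [act_mul, hu.tri.top, hu', act_fixes0 hfix], low',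
        fun a ha => by rw [one' a ha]; exact one_ne_zero⟩, one'⟩
    · rw [mul_assoc, ← hg', act_mul, hu', act_rootEl _ _ _ (by decide), hs]
      rcases List.mem_cons.1 ha with rfl | haL
      · have h1' : act g' (eb a) (ix a) = 1 := hu.one a hjl
        rw [h1']
        linear_combination -(act g' (eb a) (ix 0)) * hε
      · have ha1 := hL a ha
        have hal := (S_lt a (List.mem_append_left _ ha1)).1
        rw [hz a haL, hu.tri.low a hal j hjl
          (.inr ⟨by rw [deg_of_S1 hj, deg_of_S1 ha1], fun e => hnd.1 (e ▸ haL)⟩)]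
        ring

variable (hF : ∃ c : F, c ≠ 0 ∧ c ≠ 1)

include hF in
theorem unit_eq_one {g : GL I27 F} (hg : Unit1 g) (hα : ∀ j ∈ S1, act g (eb j) (ix 0) = 0) :
    g = 1 := by
  have l1 : ∀ n ∈ S1, n < 27 := fun n hn => (S_lt n (List.mem_append_left _ hn)).1
  have l2 : ∀ n ∈ S2, n < 27 := fun n hn => (S_lt n (List.mem_append_right _ hn)).1
  have e1 : ∀ j ∈ S1, act g (eb j) = eb j := fun j hj => vec_ext fun n hn => by
    rw [eb_apply (l1 j hj) hn]
    by_cases hnj : n = j
    · rw [if_pos hnj, hnj]; exact hg.one j (l1 j hj)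
    rw [if_neg hnj]
    rcases S_cover n hn with rfl | n1 | n2
    · exact hα j hj
    · exact hg.tri.low j (l1 j hj) n hn (.inr ⟨by rw [deg_of_S1 hj, deg_of_S1 n1], hnj⟩)
    · exact hg.tri.low j (l1 j hj) n hn (.inl (by rw [deg_of_S1 hj, deg_of_S2 n2]; omega))
  have p2 : ∀ k ∈ S2, ∀ n ∈ S2, act g (eb k) (ix n) = if n = k then 1 else 0 := fun k hk n hn => by
    by_cases hnk : n = k
    · rw [if_pos hnk, hnk]; exact hg.one k (l2 k hk)
    · rw [if_neg hnk]
      exact hg.tri.low k (l2 k hk) n (l2 n hn) (.inr ⟨by rw [deg_of_S2 hk, deg_of_S2 hn], hnk⟩)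
  have hβ : ∀ k ∈ S2, ∀ c ∈ S1, act g (eb k) (ix c) = 0 := fun k hk c hc => by
    rcases betaChk k hk c hc with ⟨i, hi, hu⟩ | ⟨l, hl, j, hj, h0, hu⟩
    · obtain ⟨C, hC, hCz⟩ := unitMate_spec (F := F) hu
      have e := aForm_act hF hg.tri.mem (eb k) (eb i)
      rw [e1 i hi, white_eb (l2 k hk), aForm_eb (l1 i hi)] at e
      have key : ∀ L : List (ℤ × ℕ × ℕ),
          (∀ p ∈ L, (p.2.1 ∈ S2 ∧ p.2.2 ∈ S1) ∨ (p.2.1 ∈ S1 ∧ p.2.2 ∈ S2)) →
          (L.map fun p => (p.1 : F) *
            (act g (eb k) (ix p.2.1) * act g (eb k) (ix p.2.2))).sum =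
          ((L.flatMap fun p => (if p.2.1 = k then [(p.1, p.2.2)] else []) ++
            (if p.2.2 = k then [(p.1, p.2.1)] else [])).map
              fun p => (p.1 : F) * act g (eb k) (ix p.2)).sum := by
        intro L hL
        induction L with
        | nil => simp
        | cons p L ih =>
          simp only [List.map_cons, List.sum_cons, List.flatMap_cons, List.map_append,
            List.sum_append]
          rw [ih fun q hq => hL q (List.mem_cons_of_mem _ hq)]
          rcases hL p (List.mem_cons_self ..) with ⟨a2, b1⟩ | ⟨a1, b2⟩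
          · rw [p2 k hk _ a2, if_neg (show ¬ p.2.2 = k from fun e => S_disj _ b1 (e.symm ▸ hk))]
            split_ifs <;> simp
          · rw [p2 k hk _ b2, if_neg (show ¬ p.2.1 = k from fun e => S_disj _ a1 (e.symm ▸ hk))]
            split_ifs <;> simp
      rw [key _ (der_S1 i hi)] at e
      change ((der2 i k).map fun p => (p.1 : F) * act g (eb k) (ix p.2)).sum = 0 at e
      rw [hCz] at e
      exact (mul_eq_zero.1 e).resolve_left hC
    · obtain ⟨C, hC, hCz⟩ := unitMate_spec (F := F) hu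
      have e := dForm_act hg.tri.mem (eb k) (eb l) (eb j)
      rw [e1 j hj, dForm_proj2 hj (p2 k hk) (p2 l hl) hk hl, dForm_eb_left (l1 j hj) (l2 k hk),
        h0, hCz] at e
      simp only [List.map_nil, List.sum_nil, mul_zero, zero_add, one_mul] at e
      exact (mul_eq_zero.1 e).resolve_left hC
  have hγ : ∀ k ∈ S2, act g (eb k) (ix 0) = 0 := fun k hk => by
    obtain ⟨a, ha, hak, hak'⟩ := gammaChk k hk
    obtain ⟨hma, hmm, hma'⟩ := mir_spec a ha
    obtain ⟨C, hC, hoff⟩ := der_off (F := F) ha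
    set x := act g (eb k) with hx
    set y := act g (eb a) with hy
    have e := dForm_act hg.tri.mem (eb k) (eb a) (eb (mir a))
    rw [show act g (eb (mir a)) = (1 : F) • eb (mir a) + act g (eb (mir a)) (ix 0) • eb 0 from
      vec_ext fun n hn => by
        rw [Pi.add_apply, Pi.smul_apply, Pi.smul_apply, eb_apply (l2 _ hma) hn,
          eb_apply (by decide) hn, smul_eq_mul, smul_eq_mul, one_mul]
        rcases S_cover n hn with rfl | n1 | n2
        · rw [if_pos rfl, if_neg (fun e : 0 = mir a => (S_lt _ (List.mem_append_right _ hma)).2 e.symm)]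
          ring
        · rw [hβ _ hma n n1, if_neg (fun e : n = mir a => S_disj n n1 (e ▸ hma)),
            if_neg (S_lt n (List.mem_append_left _ n1)).2]
          ring
        · rw [p2 _ hma n n2, if_neg (S_lt n (List.mem_append_right _ n2)).2]
          ring] at e
    rw [dForm_lin, dForm_top, ← hx, ← hy] at e
    obtain ⟨ε, hε, hb⟩ := bF_single (F := F) ha
    rw [hb x y 1 (p2 a ha), show x (ix (mir a)) = 0 by rw [hx, p2 k hk _ hma, if_neg hak'], mul_zero, mul_zero, mul_zero, add_zero,
      one_mul] at e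
    have f1 : ∀ z : ℕ, z ∈ S1 → (∀ w ∈ S2, eb (F := F) w (ix z) = 0) := fun z hz w hw => by
      rw [eb_apply (l2 w hw) (l1 z hz), if_neg fun e : z = w => S_disj z hz (e ▸ hw)]
    rw [dForm_eb (l2 _ hma), dForm_eb (l2 _ hma)] at e
    rw [hoff (fun b c => x (ix b) * y (ix c) + x (ix c) * y (ix b))
        (fun b c h => by
          rcases h with h | h <;> simp [hx, hy, hβ k hk _ h, hβ a ha _ h])
        (fun b c => by ring),
      hoff (fun b c => eb k (ix b) * eb a (ix c) + eb k (ix c) * eb a (ix b))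
        (fun b c h => by rcases h with h | h <;> simp [f1 _ h k hk, f1 _ h a ha])
        (fun b c => by ring)] at e
    simp only [hy, p2 a ha a ha, hx, p2 k hk a ha, hak, if_true, if_false, mul_one, zero_mul,
      add_zero, eb_apply (l2 k hk) (show 0 < 27 by decide), eb_apply (l2 a ha) (l2 a ha),
      eb_apply (l2 k hk) (l2 a ha), show ¬ 0 = k from fun e => (S_lt k (List.mem_append_right _ hk)).2 e.symm,
      mul_zero] at e
    exact (mul_eq_zero.1 e).resolve_left hC
  refine act_ext_eb fun a ha => ?_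
  rw [act_one]
  rcases S_cover a ha with rfl | a1 | a2
  · exact hg.tri.top
  · exact e1 a a1
  · refine vec_ext fun n hn => ?_
    rw [eb_apply (l2 a a2) hn]
    rcases S_cover n hn with rfl | n1 | n2
    · rw [hγ a a2, if_neg fun e => (S_lt a (List.mem_append_right _ a2)).2 e.symm]
    · rw [hβ a a2 n n1, if_neg fun e : n = a => S_disj n n1 (e ▸ a2)]
    · exact p2 a a2 n n2

include hF in
/-- Every isometry of the cubic form is a product of root elements. -/
theorem gen0_eq : gen0 F = E6univ F := by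
  refine le_antisymm gen0_le fun g hg => ?_
  have back : ∀ {h y : GL I27 F}, h ∈ gen0 F → h * y ∈ gen0 F → y ∈ gen0 F := fun {h y} a b => by
    simpa using Subgroup.mul_mem _ (Subgroup.inv_mem _ a) b
  have hv0 : act g (eb 0) ≠ 0 := fun e =>
    eb_ne_zero (F := F) 0 (act_inj g (e.trans (by rw [act, Matrix.mulVec_zero])))
  obtain ⟨h₁, m₁, he⟩ := white_to_top hF hv0 ((white_eb (by decide)).act hF hg)
  rw [← act_mul] at he
  refine back m₁ ?_
  have hg₁ := Subgroup.mul_mem _ (gen0_le m₁) hg
  generalize h₁ * g = g₁ at hg₁ he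
  obtain ⟨h₂, m₂, s, hm⟩ := exists_mono hF hg₁ he
  refine back m₂ ?_
  have ht := hm.tri
  generalize h₂ * g₁ = g₂ at ht
  obtain ⟨h₃, m₃, ht', h1⟩ := exists_diag ht
  refine back m₃ ?_
  generalize h₃ * g₂ = g₃ at ht' h1
  obtain ⟨h₄, m₄, hu, hz⟩ := exists_alpha ⟨ht', h1⟩ S1 (by decide +kernel) fun j hj => hj
  refine back m₄ ?_
  rw [unit_eq_one hF hu hz]
  exact Subgroup.one_mem _

end Cfsg.Agent.Chev.E6Cubic
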