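import Cfsg.Agent.Chev.E6Cubic.Form
import Cfsg.Agent.Chev.E6Cubic.RootChk

/-!
Kernel checks behind the transitivity and stabiliser arguments for the cubic form.
-/

set_option autoImplicit false
set_option maxRecDepth 100000
set_option maxHeartbeats 2000000

namespace Cfsg.Agent.Chev.E6Cubic

open Cfsg.Lie

/-- The mate of a degree two weight in its hyperbolic pair. -/
def mir (k : ℕ) : ℕ :=
  ((pairT.flatMap fun p => [(p.1, p.2), (p.2, p.1)]).find? fun p => decide (p.1 = k)).elim k Prod.snd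

/-- The degree of a weight. -/
def deg (n : ℕ) : ℕ := if n = 0 then 0 else if n ∈ S1 then 1 else 2

/-- The row of a root operator. -/
def rowL (r n : ℕ) : List (ℕ × ℕ × ℤ) := (ent r).filter fun p => decide (p.1 = n)

/-- One entry `±1` in a row. -/
def isRow (r i j : ℕ) : Bool :=
  match rowL r i with
  | [(_, b, c)] => decide (b = j) && decide (c = 1 ∨ c = -1)
  | _ => false

/-- An empty row. -/
def noRow (r i : ℕ) : Bool := (rowL r i).isEmpty

/-- A root operator killing the highest weight vector. -/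
def fixes0 (r : ℕ) : Bool := (ent r).all fun p => decide (p.2.1 ≠ 0)

/-- The third weights of the monomials through two given weights. -/
def der2 (n k : ℕ) : List (ℤ × ℕ) :=
  (der n).flatMap fun p =>
    (if p.2.1 = k then [(p.1, p.2.2)] else []) ++ (if p.2.2 = k then [(p.1, p.2.1)] else [])

/-- A single third weight with coefficient `±1`. -/
def unitMate (n k i : ℕ) : Bool :=
  match der2 n k with
  | [(C, c)] => decide (c = i) && decide (C = 1 ∨ C = -1)
  | _ => false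

/-- The terms of `der n` avoiding degree one. -/
def derOff (n : ℕ) : List (ℤ × ℕ × ℕ) :=
  (der n).filter fun p => decide (p.2.1 ∉ S1 ∧ p.2.2 ∉ S1)

/-- One term `(0, k)` avoiding degree one. -/
def offOk (n k : ℕ) : Bool :=
  match derOff n with
  | [(C, a, b)] => decide ((a = 0 ∧ b = k) ∨ (a = k ∧ b = 0)) && decide (C = 1 ∨ C = -1)
  | _ => false

/-- The weights fixed after `m` steps. -/
def fixedW (m : ℕ) : List ℕ := (pairT.take m).flatMap fun p => [p.1, p.2]

/-- The weights still free after `m` steps. -/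
def freeW (m : ℕ) : List ℕ := S2.filter fun n => decide (n ∉ fixedW m)

/-- The permutation of the last pair. -/
def sw (s : Bool) (k : ℕ) : ℕ :=
  if s then (if k = 11 then 24 else if k = 24 then 11 else k) else k

/-- The propagation is well founded. -/
def propOk : List ℕ → List (ℕ × ℕ × ℕ) → Bool
  | K, [] => (List.range 27).all fun n => decide (n ∈ K)
  | K, (a, b, c) :: L => decide (a ∈ K ∧ b ∈ K) && propOk (c :: K) L

/-- A torus direction at a weight. -/
def frameRow (r n : ℕ) : Bool :=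
  (noRow r n && noRow (chevE6.neg r) n) ||
    (List.range 27).any fun j =>
      (match rowL r n, rowL (chevE6.neg r) j with
        | [(_, b, c)], [(_, b', c')] =>
          decide (b = j) && decide (b' = n) && decide (c = c') && decide (c = 1 ∨ c = -1) &&
            noRow r j && noRow (chevE6.neg r) n
        | _, _ => false) ||
      (match rowL (chevE6.neg r) n, rowL r j with
        | [(_, b, c)], [(_, b', c')] =>
          decide (b = j) && decide (b' = n) && decide (c = c') && decide (c = 1 ∨ c = -1) &&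
            noRow (chevE6.neg r) j && noRow r n
        | _, _ => false)

theorem S_lt : ∀ n ∈ S1 ++ S2, n < 27 ∧ n ≠ 0 := by decide +kernel

theorem S_cover : ∀ n < 27, n = 0 ∨ n ∈ S1 ∨ n ∈ S2 := by decide +kernel

theorem S_disj : ∀ n ∈ S1, n ∉ S2 := by decide +kernel

theorem mir_spec : ∀ k ∈ S2, mir k ∈ S2 ∧ mir (mir k) = k ∧ mir k ≠ k := by decide +kernel

theorem raise1 : ∀ j ∈ S1, ∃ r : Fin 72, isRow r 0 j = true ∧ fixes0 r = true ∧
    (∀ n ∈ S2, noRow r n = true) ∧ ∀ n ∈ S1, ∀ p ∈ rowL r n, p.2.1 ∈ S2 := by decide +kernel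

theorem raise2 : ∀ j ∈ S2, ∃ i ∈ S1, ∃ r : Fin 72, isRow r i j = true := by decide +kernel

theorem lower1 : ∀ j ∈ S1, ∃ r : Fin 72, isRow r j 0 = true ∧ noRow r 0 = true ∧
    ∀ n ∈ S1, n ≠ j → noRow r n = true := by decide +kernel

theorem off_mir : ∀ k ∈ S2, offOk (mir k) k = true := by decide +kernel

theorem moves : ∀ a ∈ S2, ∀ b ∈ S2, b ≠ a → b ≠ mir a → ∃ r : Fin 72,
    isRow r a b = true ∧ isRow r (mir b) (mir a) = true ∧ fixes0 r = true ∧
    ∀ n ∈ S2, n ≠ a → n ≠ mir b → noRow r n = true := by decide +kernel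

theorem free_spec : ∀ m : Fin 5, ∀ p, pairT[(m : ℕ)]? = some p →
    p.1 ∈ freeW m ∧ p.2 = mir p.1 ∧ fixedW (m + 1) = fixedW m ++ [p.1, p.2] ∧
    (∀ n ∈ freeW m, mir n ∈ freeW m) ∧
    ((m : ℕ) < 4 → ∃ q ∈ freeW m, q ≠ p.1 ∧ q ≠ p.2) := by
  intro m p hp
  fin_cases m <;> simp [pairT] at hp <;> subst hp <;> decide +kernel

theorem free_last : freeW 4 = [11, 24] ∧ fixedW 5 ≠ [] ∧ ∀ n ∈ S2, n ∈ fixedW 4 ∨ n = 11 ∨ n = 24 := by
  decide +kernel

theorem sw_spec : ∀ s : Bool, (∀ n ∈ S2, sw s n ∈ S2) ∧ ∀ n ∈ S2, ∃ k ∈ S2, mir (sw s k) = n := by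
  decide +kernel

theorem der_S1 : ∀ n ∈ S1, ∀ p ∈ der n, (p.2.1 ∈ S2 ∧ p.2.2 ∈ S1) ∨ (p.2.1 ∈ S1 ∧ p.2.2 ∈ S2) := by
  decide +kernel

theorem der2_S1 : ∀ n ∈ S1, ∀ k ∈ S2, ∀ p ∈ der2 n k, p.2 ∈ S1 := by decide +kernel

theorem sep : ∀ s : Bool, ∀ i ∈ S1, ∀ j ∈ S1, (s = true ∨ i ≠ j) →
    ∃ k ∈ S2, der2 j k = [] ∧ ∃ n ∈ S1, unitMate n (sw s k) i = true := by decide +kernel

theorem betaChk : ∀ k ∈ S2, ∀ c ∈ S1, (∃ i ∈ S1, unitMate i k c = true) ∨
    ∃ l ∈ S2, ∃ j ∈ S1, der2 j k = [] ∧ unitMate j l c = true := by decide +kernel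

theorem gammaChk : ∀ k ∈ S2, ∃ a ∈ S2, a ≠ k ∧ mir a ≠ k := by decide +kernel

theorem mons_deg : ∀ m ∈ mons, deg m.2.1 + deg m.2.2.1 + deg m.2.2.2 = 4 := by decide +kernel

theorem prop_terms : ∀ p ∈ propT, p.1 < 27 ∧ p.2.1 < 27 ∧ p.2.2 < 27 ∧
    deg p.1 + deg p.2.1 + deg p.2.2 = 4 ∧ unitMate p.2.2 p.1 p.2.1 = true := by decide +kernel

theorem prop_ok : propOk ((0 :: frame.map Prod.snd).reverse) propT = true := by decide +kernel

theorem frame_rows : ∀ f ∈ frame, f.1 < 72 ∧ f.2 < 27 ∧ ∀ n < 27, frameRow f.1 n = true := by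
  decide +kernel

theorem frame_order : ∀ i : Fin 5, ∀ f, frame[(i : ℕ)]? = some f →
    (noRow f.1 f.2 && noRow (chevE6.neg f.1) f.2) = false ∧
    noRow f.1 0 = true ∧ noRow (chevE6.neg f.1) 0 = true ∧
    ∀ g ∈ frame.take i, noRow f.1 g.2 = true ∧ noRow (chevE6.neg f.1) g.2 = true := by
  intro i f hf
  fin_cases i <;> simp [frame] at hf <;> subst hf <;> decide +kernel

end Cfsg.Agent.Chev.E6Cubic
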