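import Cfsg.Agent.Chev.E6Cubic.Root
import Cfsg.Agent.Chev.E6Cubic.StabChk

/-!
The root elements of the 27-dimensional representation move every vector with vanishing adjoint to
the highest weight vector.
-/

set_option autoImplicit false
set_option maxRecDepth 100000
set_option maxHeartbeats 1000000

namespace Cfsg.Agent.Chev.E6Cubic

open Cfsg.Lie Matrix
open scoped MatrixGroups

variable {F : Type*} [Field F]

/-- The group generated by the root elements. -/
def gen0 (F : Type*) [Field F] : Subgroup (GL I27 F) :=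
  Subgroup.closure {g | ∃ (r : ℕ) (t : F), g = rootEl r t}

theorem rootEl_gen0 (r : ℕ) (t : F) : rootEl r t ∈ gen0 F := Subgroup.subset_closure ⟨r, t, rfl⟩

theorem gen0_le : gen0 F ≤ E6univ F := (Subgroup.closure_le _).2 fun _ ⟨r, t, e⟩ => e ▸ rootEl_mem r t

theorem rowSum_noRow {r n : ℕ} (h : noRow r n = true) (v : I27 → F) :
    rowSum (ent r) v n = 0 := by
  rw [noRow, List.isEmpty_iff, rowL] at h
  rw [rowSum, h]
  rfl

theorem rowSum_isRow {r i j : ℕ} (h : isRow r i j = true) :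
    ∃ ε : F, ε * ε = 1 ∧ ∀ v : I27 → F, rowSum (ent r) v i = ε * v (ix j) := by
  unfold isRow at h
  split at h
  next a b c hl =>
    simp only [Bool.and_eq_true, decide_eq_true_eq] at h
    obtain ⟨rfl, hc⟩ := h
    refine ⟨(c : F), by rcases hc with rfl | rfl <;> simp, fun v => ?_⟩
    rw [rowL] at hl
    rw [rowSum, hl]
    simp
  next => simp at h

theorem act_fixes0 {r : ℕ} (h : fixes0 r = true) (t : F) : act (rootEl r t) (eb 0) = eb 0 :=
  vec_ext fun n hn => by
    rw [act_rootEl r t _ hn, rowSum]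
    refine add_eq_left.2 (mul_eq_zero_of_right _ (List.sum_eq_zero fun x hx => ?_))
    obtain ⟨p, hp, rfl⟩ := List.mem_map.1 hx
    have hp' := (List.mem_filter.1 hp).1
    rw [eb_apply (by decide) (ent_lt hp').2,
      if_neg (by simpa using List.all_eq_true.1 h p hp'), mul_zero]

theorem list_sum_filter {α : Type*} (L : List α) (P : α → Bool) (f : α → F)
    (h : ∀ a ∈ L, P a = false → f a = 0) : (L.map f).sum = ((L.filter P).map f).sum := by
  induction L with
  | nil => rfl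
  | cons a L ih =>
    have ih' := ih fun b hb => h b (List.mem_cons_of_mem _ hb)
    cases hP : P a
    · rw [List.filter_cons_of_neg (by simp [hP]), List.map_cons, List.sum_cons,
        h a (List.mem_cons_self ..) hP, zero_add, ih']
    · rw [List.filter_cons_of_pos hP, List.map_cons, List.sum_cons, List.map_cons, List.sum_cons,
        ih']

/-- Polarisation at `mir k`, for vectors vanishing in degree one. -/
theorem der_off {k : ℕ} (hk : k ∈ S2) : ∃ C : F, C ≠ 0 ∧ ∀ f : ℕ → ℕ → F,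
    (∀ b c, b ∈ S1 ∨ c ∈ S1 → f b c = 0) → (∀ b c, f b c = f c b) →
      ((der (mir k)).map fun p => (p.1 : F) * f p.2.1 p.2.2).sum = C * f 0 k := by
  have h := off_mir k hk
  unfold offOk at h
  split at h
  next C a b hl =>
    simp only [Bool.and_eq_true, decide_eq_true_eq] at h
    obtain ⟨hab, hC⟩ := h
    refine ⟨(C : F), by rcases hC with rfl | rfl <;> simp, fun f hf hs => ?_⟩
    rw [list_sum_filter _ (fun p => decide (p.2.1 ∉ S1 ∧ p.2.2 ∉ S1)) _ fun p _ hp => by
      rw [decide_eq_false_iff_not, not_and_or, not_not, not_not] at hp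
      rw [hf _ _ hp, mul_zero]]
    rw [derOff] at hl
    rw [hl]
    rcases hab with ⟨rfl, rfl⟩ | ⟨rfl, rfl⟩
    · simp
    · simp [hs a 0]
  next => simp at h

/-- A vector with vanishing adjoint. -/
def White (x : I27 → F) : Prop := ∀ y, aForm mons x y = 0

theorem white_eb {n : ℕ} (hn : n < 27) : White (eb (F := F) n) := by
  intro y
  have key : ∀ L : List (ℤ × ℕ × ℕ × ℕ),
      (∀ m ∈ L, (m.2.1 < 27 ∧ m.2.2.1 < 27 ∧ m.2.2.2 < 27) ∧
        (m.2.1 ≠ m.2.2.1 ∧ m.2.1 ≠ m.2.2.2 ∧ m.2.2.1 ≠ m.2.2.2)) →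
      aForm L (eb (F := F) n) y = 0 := by
    intro L hL
    induction L with
    | nil => simp [aForm]
    | cons m L ih =>
      obtain ⟨⟨h1, h2, h3⟩, n1, n2, n3⟩ := hL m (List.mem_cons_self ..)
      have ih' := ih fun q hq => hL q (List.mem_cons_of_mem _ hq)
      simp only [aForm, List.map_cons, List.sum_cons] at ih' ⊢
      rw [ih', eb_apply hn h1, eb_apply hn h2, eb_apply hn h3]
      split_ifs <;> first | omega | simp
  exact key mons (by decide +kernel)

variable (hF : ∃ c : F, c ≠ 0 ∧ c ≠ 1)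

include hF in
theorem White.act {g : GL I27 F} (hg : g ∈ E6univ F) {x : I27 → F} (hx : White x) :
    White (act g x) := fun y => by
  rw [← act_surj g y, aForm_act hF hg]
  exact hx _

omit hF in
theorem exists_zero_ne {x : I27 → F} (hx : x ≠ 0) :
    ∃ h ∈ gen0 F, E6Cubic.act h x (ix 0) ≠ 0 := by
  have up1 : ∀ y : I27 → F, ∀ j ∈ S1, y (ix j) ≠ 0 →
      ∃ h ∈ gen0 F, E6Cubic.act h y (ix 0) ≠ 0 := fun y j hj hy => by
    by_cases h0 : y (ix 0) = 0
    · obtain ⟨r, hr, -⟩ := raise1 j hj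
      obtain ⟨ε, hε, hs⟩ := rowSum_isRow (F := F) hr
      refine ⟨_, rootEl_gen0 r 1, ?_⟩
      rw [act_rootEl _ _ _ (by decide), hs, h0, zero_add, one_mul]
      exact mul_ne_zero (left_ne_zero_of_mul (hε ▸ one_ne_zero)) hy
    · exact ⟨1, Subgroup.one_mem _, by rwa [act_one]⟩
  obtain ⟨n, hn, hxn⟩ : ∃ n < 27, x (ix n) ≠ 0 := by
    by_contra hcon
    push Not at hcon
    exact hx (vec_ext fun n hn => hcon n hn)
  rcases S_cover n hn with rfl | h1 | h2
  · exact ⟨1, Subgroup.one_mem _, by rwa [act_one]⟩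
  · exact up1 x n h1 hxn
  · obtain ⟨i, hi, r, hr⟩ := raise2 n h2
    obtain ⟨ε, hε, hs⟩ := rowSum_isRow (F := F) hr
    by_cases hxi : x (ix i) = 0
    · have : E6Cubic.act (rootEl r (1 : F)) x (ix i) ≠ 0 := by
        rw [act_rootEl _ _ _ (S_lt i (List.mem_append_left _ hi)).1, hs, hxi, zero_add, one_mul]
        exact mul_ne_zero (left_ne_zero_of_mul (hε ▸ one_ne_zero)) hxn
      obtain ⟨h, hh, hne⟩ := up1 _ i hi this
      exact ⟨h * rootEl r 1, Subgroup.mul_mem _ hh (rootEl_gen0 _ _), by rwa [act_mul]⟩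
    · exact up1 x i hi hxi

omit hF in
theorem exists_zero_one {x : I27 → F} (hx : x ≠ 0) :
    ∃ h ∈ gen0 F, E6Cubic.act h x (ix 0) = 1 := by
  obtain ⟨h, hh, hne⟩ := exists_zero_ne hx
  obtain ⟨j, hj⟩ : ∃ j, j ∈ S1 := ⟨1, by decide⟩
  obtain ⟨r', hr', hr0, -⟩ := lower1 j hj
  obtain ⟨r, hr, -⟩ := raise1 j hj
  obtain ⟨ε, hε, hs⟩ := rowSum_isRow (F := F) hr
  obtain ⟨ε', hε', hs'⟩ := rowSum_isRow (F := F) hr'
  have hj27 := (S_lt j (List.mem_append_left _ hj)).1
  set y := E6Cubic.act h x with hy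
  set s := (1 - y (ix j)) / (ε' * y (ix 0)) with hsdef
  refine ⟨rootEl r ((1 - y (ix 0)) * ε) * (rootEl r' s * h), Subgroup.mul_mem _ (rootEl_gen0 _ _)
    (Subgroup.mul_mem _ (rootEl_gen0 _ _) hh), ?_⟩
  rw [act_mul, act_mul, ← hy, act_rootEl _ _ _ (by decide), hs, act_rootEl _ _ _ hj27, hs',
    act_rootEl _ _ _ (by decide), rowSum_noRow hr0, mul_zero, add_zero]
  have he' : ε' ≠ 0 := left_ne_zero_of_mul (hε' ▸ one_ne_zero)
  rw [show s * (ε' * y (ix 0)) = 1 - y (ix j) from div_mul_cancel₀ _ (mul_ne_zero he' hne)]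
  linear_combination (1 - y (ix 0)) * hε

omit hF in
theorem exists_kill1 {x : I27 → F} (hx : x ≠ 0) : ∀ L : List ℕ, L.Nodup → (∀ j ∈ L, j ∈ S1) →
    ∃ h ∈ gen0 F, E6Cubic.act h x (ix 0) = 1 ∧ ∀ j ∈ L, E6Cubic.act h x (ix j) = 0
  | [], _, _ => by
    obtain ⟨h, hh, h1⟩ := exists_zero_one hx
    exact ⟨h, hh, h1, by simp⟩
  | j :: L, hnd, hL => by
    rw [List.nodup_cons] at hnd
    obtain ⟨h, hh, h1, hz⟩ := exists_kill1 hx L hnd.2 fun a ha => hL a (List.mem_cons_of_mem _ ha)
    have hj := hL j (List.mem_cons_self ..)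
    obtain ⟨r, hr, hr0, hoth⟩ := lower1 j hj
    obtain ⟨ε, hε, hs⟩ := rowSum_isRow (F := F) hr
    refine ⟨rootEl r (-(E6Cubic.act h x (ix j) * ε)) * h,
      Subgroup.mul_mem _ (rootEl_gen0 _ _) hh, ?_, ?_⟩
    · rw [act_mul, act_rootEl _ _ _ (by decide), rowSum_noRow hr0, mul_zero, add_zero, h1]
    · intro a ha
      have ha1 := hL a ha
      rw [act_mul, act_rootEl _ _ _ (S_lt a (List.mem_append_left _ ha1)).1]
      rcases List.mem_cons.1 ha with rfl | haL
      · rw [hs, h1]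
        linear_combination -(E6Cubic.act h x (ix a)) * hε
      · rw [rowSum_noRow (hoth a ha1 fun e => hnd.1 (e ▸ haL)), hz a haL, mul_zero, add_zero]

include hF in
theorem white_to_top {x : I27 → F} (hx : x ≠ 0) (hw : White x) :
    ∃ h ∈ gen0 F, E6Cubic.act h x = eb 0 := by
  obtain ⟨h, hh, h1, hz⟩ := exists_kill1 hx S1 (by decide +kernel) fun j hj => hj
  refine ⟨h, hh, vec_ext fun n hn => ?_⟩
  have hw' := hw.act hF (gen0_le hh)
  rw [eb_apply (by decide) hn]
  rcases S_cover n hn with rfl | h1' | h2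
  · rw [h1, if_pos rfl]
  · rw [hz n h1', if_neg fun e => (S_lt n (List.mem_append_left _ h1')).2 e]
  · rw [if_neg fun e => (S_lt n (List.mem_append_right _ h2)).2 e]
    have e := hw' (eb (mir n))
    rw [aForm_eb (S_lt _ (List.mem_append_right _ (mir_spec n h2).1)).1] at e
    obtain ⟨C, hC, hsum⟩ := der_off (F := F) h2
    rw [hsum (fun b c => E6Cubic.act h x (ix b) * E6Cubic.act h x (ix c))
      (fun b c hbc => by
        rcases hbc with hb | hb
        · rw [hz b hb, zero_mul]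
        · rw [hz c hb, mul_zero])
      (fun b c => mul_comm _ _), h1, one_mul] at e
    exact (mul_eq_zero.1 e).resolve_left hC

end Cfsg.Agent.Chev.E6Cubic
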